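import Cfsg.Agent.Lib.M12Cent22.Quot
import Cfsg.Agent.Lib.Involutions.Thompson

/-!
# The counts for Thompson's order formula

Owner: helper22.
-/

set_option autoImplicit false
set_option linter.style.haveILetI false
set_option linter.unusedSectionVars false

namespace Cfsg.Agent.Lib.M12Cent22

open Cfsg.Agent.Lib.Involutions.Basic

universe u

variable {G : Type u} [Group G]

/-- An involution in `⟨a * b⟩` commutes with the involutions `a` and `b`. -/
theorem commute_of_mem_zpowers {a b w : G} (ha : orderOf a = 2) (hb : orderOf b = 2)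
    (hw : orderOf w = 2) (hm : w ∈ Subgroup.zpowers (a * b)) : Commute a w ∧ Commute b w := by
  obtain ⟨k, hk⟩ := Subgroup.mem_zpowers_iff.1 hm
  have hA : a * w * a⁻¹ = w := by
    have h1 : a * (a * b) * a⁻¹ = (a * b)⁻¹ := by
      rw [invol_inv ha]; exact invert_mul (invol_mul_self ha) (invol_mul_self hb)
    rw [← hk, ← conj_zpow, h1, inv_zpow, hk, invol_inv hw]
  have hB : b * w * b⁻¹ = w := by
    have h1 : b * (a * b) * b⁻¹ = (a * b)⁻¹ := by
      rw [mul_inv_rev, invol_inv ha, invol_inv hb, mul_assoc, mul_assoc a b b, invol_mul_self hb,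
        mul_one]
    rw [← hk, ← conj_zpow, h1, inv_zpow, hk, invol_inv hw]
  exact ⟨mul_inv_eq_iff_eq_mul.1 hA, mul_inv_eq_iff_eq_mul.1 hB⟩

theorem orderOf_of_isConj {a b : G} (ha : orderOf a = 2) (h : IsConj a b) : orderOf b = 2 := by
  obtain ⟨g, rfl⟩ := isConj_iff.1 h
  rw [orderOf_conj_eq, ha]

/-- The pairs of Thompson's order formula belonging to `x`. -/
abbrev Pairs (z t x : G) : Type u :=
  {p : G × G // IsConj z p.1 ∧ IsConj t p.2 ∧ x ∈ Subgroup.zpowers (p.1 * p.2)}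

namespace Tab

variable {z : G} (F : Tab z)

include F

variable [Finite G] [IsSimpleGroup G] (hG : ¬ IsMulCommutative G)

include hG

theorem not_conj_t_z : ¬ IsConj z (F.f 3) := F.not_conj_B F.isB_three

/-- The indices of the conjugates of `z`. -/
theorem conj_z_iff {i : Fin 192} : IsConj z (F.f i) ↔
    (i : ℕ) = 1 ∨ isA i = true ∨ (isD i = true ∧ IsConj z (F.f 15)) := by
  constructor
  · intro h
    by_cases hi : F.f i = z
    · exact Or.inl (congrArg Fin.val (F.f_inj (hi.trans F.f_one.symm)))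
    have ho := orderOf_of_isConj F.orderOf_z h
    obtain ⟨j, hj, ht⟩ := F.invol_cases (F.commute_z i) (invol_mul_self ho) (invol_ne_one ho) hi
    obtain rfl := F.f_inj hj
    rcases ht with ht | ht | ht
    · exact Or.inr (Or.inl ht)
    · exact absurd h (F.not_conj_B ht)
    · exact Or.inr (Or.inr ⟨ht, h.trans (F.conj_D ht).symm⟩)
  · rintro (h | h | ⟨h, hd⟩)
    · rw [show i = 1 from Fin.ext h]
      exact isConj_iff.2 ⟨1, by rw [one_mul, inv_one, mul_one, F.f_one]⟩
    · exact F.conj_z_A hG h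
    · exact hd.trans (F.conj_D h)

/-- The indices of the conjugates of `t`. -/
theorem conj_t_iff {i : Fin 192} : IsConj (F.f 3) (F.f i) ↔
    isB i = true ∨ (isD i = true ∧ ¬ IsConj z (F.f 15)) := by
  constructor
  · intro h
    have hnz : ¬ IsConj z (F.f i) := fun e => F.not_conj_t_z hG (e.trans h.symm)
    have ho := orderOf_of_isConj F.orderOf_t h
    by_cases hi : F.f i = z
    · exact absurd (isConj_iff.2 ⟨1, by rw [hi]; group⟩) hnz
    obtain ⟨j, hj, ht⟩ := F.invol_cases (F.commute_z i) (invol_mul_self ho) (invol_ne_one ho) hi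
    obtain rfl := F.f_inj hj
    rcases ht with ht | ht | ht
    · exact absurd (F.conj_z_A hG ht) hnz
    · exact Or.inl ht
    · exact Or.inr ⟨ht, fun hd => hnz (hd.trans (F.conj_D ht))⟩
  · rintro (h | ⟨h, hd⟩)
    · exact F.conj_B h
    · exact (F.conj_D_B hG hd).trans (F.conj_D h)

theorem invol_two_classes {x : G} (hx : orderOf x = 2) : IsConj z x ∨ IsConj (F.f 3) x := by
  rcases F.invol_conj hG hx with h | h | h
  · exact Or.inl h
  · exact Or.inr h
  · by_cases hd : IsConj z (F.f 15)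
    · exact Or.inl (hd.trans h)
    · exact Or.inr ((F.conj_D_B hG hd).trans h)

theorem card_centralizer_z : Nat.card ↥(Subgroup.centralizer ({z} : Set G)) = 192 := by
  rw [← Nat.card_fin 192]
  refine (Nat.card_congr (Equiv.ofBijective (fun i => ⟨F.f i, F.mem_cent i⟩) ⟨?_, ?_⟩)).symm
  · exact fun a b h => F.f_inj (congrArg Subtype.val h)
  · rintro ⟨x, hx⟩
    obtain ⟨j, rfl⟩ := (F.mem_iff x).1 hx
    exact ⟨j, rfl⟩

theorem order_eq : Nat.card G =
    Nat.card F.Ct * Nat.card (Pairs z (F.f 3) z) + 192 * Nat.card (Pairs z (F.f 3) (F.f 3)) := by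
  rw [Cfsg.Agent.Lib.Involutions.Thompson.order_formula z (F.f 3) F.orderOf_z F.orderOf_t
    (F.not_conj_t_z hG) (fun x hx => F.invol_two_classes hG hx), F.card_centralizer_z hG]
  rfl

/-- The pairs belonging to an element commuting with `z` can be counted in the table. -/
theorem card_pairs {x : G} (k : Fin 192) (hk : F.f k = x) (hx : orderOf x = 2)
    (hcx : ∀ y : G, Commute y x → Commute y z) (q : ℕ → ℕ → Bool)
    (hq : ∀ i j : Fin 192, (IsConj z (F.f i) ∧ IsConj (F.f 3) (F.f j) ∧ pw i j k = true) ↔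
      q i j = true) :
    Nat.card (Pairs z (F.f 3) x) = cnt2 192 q := by
  rw [← card_cnt2]
  symm
  refine Nat.card_congr (Equiv.ofBijective (fun p => ⟨(F.f p.1.1, F.f p.1.2), ?_⟩) ⟨?_, ?_⟩)
  · obtain ⟨h1, h2, h3⟩ := (hq p.1.1 p.1.2).2 p.2
    exact ⟨h1, h2, hk ▸ (F.pw_iff _ _ k).2 h3⟩
  · intro a b h
    have h' := Prod.ext_iff.1 (congrArg Subtype.val h)
    exact Subtype.ext (Prod.ext (F.f_inj h'.1) (F.f_inj h'.2))
  · rintro ⟨⟨u, v⟩, hu, hv, hm⟩
    obtain ⟨h1, h2⟩ := commute_of_mem_zpowers (orderOf_of_isConj F.orderOf_z hu)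
      (orderOf_of_isConj F.orderOf_t hv) hx hm
    obtain ⟨i, rfl⟩ := F.exists_idx (hcx u h1)
    obtain ⟨j, rfl⟩ := F.exists_idx (hcx v h2)
    exact ⟨⟨(i, j), (hq i j).1 ⟨hu, hv, (F.pw_iff i j k).1 (hk.symm ▸ hm)⟩⟩, rfl⟩

theorem pairs_z_U (hd : ¬ IsConj z (F.f 15)) : Nat.card (Pairs z (F.f 3) z) = 48 := by
  rw [F.card_pairs hG 1 F.f_one F.orderOf_z (fun y h => h) pairsU fun i j => ?_]
  · exact Nat.eq_of_beq_eq_true count_U
  · rw [F.conj_z_iff hG, F.conj_t_iff hG]
    simp only [pairsU, hd, and_false, or_false, Bool.and_eq_true, Bool.or_eq_true, Nat.beq_eq,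
      not_false_eq_true, and_true]
    exact Iff.rfl

theorem pairs_z_M (hd : IsConj z (F.f 15)) : Nat.card (Pairs z (F.f 3) z) = 240 := by
  rw [F.card_pairs hG 1 F.f_one F.orderOf_z (fun y h => h) pairsM fun i j => ?_]
  · exact Nat.eq_of_beq_eq_true count_M
  · rw [F.conj_z_iff hG, F.conj_t_iff hG]
    simp only [pairsM, hd, and_true, or_false, Bool.and_eq_true, Bool.or_eq_true, Nat.beq_eq,
      not_true_eq_false, and_false, or_assoc]
    exact Iff.rfl

theorem pairs_t_small (hC : F.Ct ≤ Subgroup.centralizer ({z} : Set G)) :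
    Nat.card (Pairs z (F.f 3) (F.f 3)) = 3 := by
  rw [F.card_pairs hG 3 rfl F.orderOf_t (fun y h => mem_cent_iff.1 (hC (F.mem_Ct.2 h))) pairsR
    fun i j => ?_]
  · exact Nat.eq_of_beq_eq_true count_R
  · rw [F.conj_z_iff hG, F.conj_t_iff hG]
    constructor
    · rintro ⟨hi, hj, hp⟩
      have hio : orderOf (F.f i) = 2 :=
        orderOf_of_isConj F.orderOf_z ((F.conj_z_iff hG).2 hi)
      have hjo : orderOf (F.f j) = 2 :=
        orderOf_of_isConj F.orderOf_t ((F.conj_t_iff hG).2 hj)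
      obtain ⟨h1, h2⟩ := commute_of_mem_zpowers hio hjo F.orderOf_t ((F.pw_iff i j 3).2 hp)
      have c1 : com 3 i = true := F.comm_iff.1 h1.symm
      have c2 : com 3 j = true := F.comm_iff.1 h2.symm
      have d1 := (F.R_cases c1).1
      have d2 := (F.R_cases c2).1
      simp only [d1, d2, Bool.false_eq_true, false_and, or_false] at hi hj
      have hp' : pw i j 3 = true := hp
      simp [pairsR, c1, c2, hj, hp', hi]
    · intro h
      simp only [pairsR, Bool.and_eq_true, Bool.or_eq_true, Nat.beq_eq] at h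
      obtain ⟨⟨hi, -⟩, ⟨hj, -⟩, hp⟩ := h
      refine ⟨?_, Or.inl hj, hp⟩
      rcases hi with hi | hi
      · exact Or.inl hi
      · exact Or.inr (Or.inl hi)

/-- `F.f 110` is conjugate to `z` in the centralizer of `t` if that group modulo `⟨t⟩` has a
second central involution near `z`. -/
theorem a_conj_z (hX : ∀ r : F.Ct ⧸ F.K, r * r ≠ 1 → r * r * (r * r) = 1 →
      ∃ g, g * (r * r) * g⁻¹ ≠ r * r ∧ Commute (g * (r * r) * g⁻¹) (r * r)) :
    ∃ c ∈ F.Ct, c * F.f 110 * c⁻¹ = z := by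
  set r : F.Ct := ⟨F.f 21, F.f_mem_Ct (by decide +kernel)⟩ with hr
  have hsq : F.π r * F.π r = F.zX := by
    rw [← map_mul]
    exact congrArg F.π (Subtype.ext ((F.mul' (k := 1) (by decide +kernel)).trans F.f_one))
  obtain ⟨g, hg1, hg2⟩ := hX (F.π r) (by rw [hsq]; exact invol_ne_one F.orderOf_zX)
    (by rw [hsq]; exact invol_mul_self F.orderOf_zX)
  rw [hsq] at hg1 hg2
  obtain ⟨d, rfl⟩ := F.π_surjective g
  set c₀ : F.Ct := ⟨z, F.z_mem_Ct⟩ with hc₀
  have hz : F.zX = F.π c₀ := rfl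
  rw [hz, ← map_inv, ← map_mul, ← map_mul] at hg1 hg2
  set x : F.Ct := d * c₀ * d⁻¹ with hx
  have hxz : IsConj z (x : G) := isConj_iff.2 ⟨d, rfl⟩
  have hcz : Commute (x : G) z := (F.commute_π_iff hG (r := c₀) (IsConj.refl z)).1 hg2
  have hne : (x : G) ≠ z := fun e => hg1 (congrArg F.π (Subtype.ext e))
  obtain ⟨p, hp, hpe⟩ := F.exists_R x.2 hcz
  have hc : ((d : G))⁻¹ * F.f p * (d : G) = z := by
    rw [hpe, hx, Subgroup.coe_mul, Subgroup.coe_mul, Subgroup.coe_inv]
    show (d : G)⁻¹ * ((d : G) * z * (d : G)⁻¹) * (d : G) = z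
    group
  have hpz : IsConj z (F.f p) := hpe ▸ hxz
  rcases (F.conj_z_iff hG).1 hpz with h | h | ⟨h, -⟩
  · exact absurd (hpe.symm.trans (by rw [show p = 1 from Fin.ext h, F.f_one])) hne
  · rcases (F.R_cases hp).2.1 h with rfl | rfl
    · exact ⟨(d : G)⁻¹, inv_mem d.2, by rw [inv_inv]; exact hc⟩
    · refine ⟨(d : G)⁻¹ * F.f 21, mul_mem (inv_mem d.2) r.2, ?_⟩
      have he2 : F.f 21 * F.f 110 = F.f 145 * F.f 21 := F.eq_iff.2 (by decide +kernel)
      refine Eq.trans ?_ hc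
      calc (d : G)⁻¹ * F.f 21 * F.f 110 * ((d : G)⁻¹ * F.f 21)⁻¹
          = (d : G)⁻¹ * (F.f 21 * F.f 110) * (F.f 21)⁻¹ * d := by group
        _ = (d : G)⁻¹ * F.f 145 * d := by rw [he2]; group
  · rw [(F.R_cases hp).1] at h; simp at h

/-- The number of `z`-conjugates in the centralizer of `t`, when they form one class there. -/
theorem card_Zs (hd : IsConj z (F.f 15)) :
    Nat.card {x : G // IsConj z x ∧ x ∈ F.Ct} * 16 = Nat.card F.Ct := by
  set c₀ : F.Ct := ⟨z, F.z_mem_Ct⟩ with hc₀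
  have h := Cfsg.Agent.Lib.Involutions.Thompson.card_class_mul c₀
  have h1 : Nat.card {x : G // IsConj z x ∧ x ∈ F.Ct} = Nat.card {u : F.Ct // IsConj c₀ u} := by
    let k : {u : F.Ct // IsConj c₀ u} → {x : G // IsConj z x ∧ x ∈ F.Ct} := fun u =>
      ⟨(u.1 : G), (Subgroup.subtype F.Ct).map_isConj u.2, u.1.2⟩
    refine (Nat.card_congr (Equiv.ofBijective k ⟨?_, ?_⟩)).symm
    · intro a b e
      have e' := congrArg Subtype.val e
      exact Subtype.ext (Subtype.ext e')
    · rintro ⟨x, hx, hxc⟩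
      obtain ⟨c, hc, hcx⟩ := F.Zs_conj hG hd hx hxc
      refine ⟨⟨⟨x, hxc⟩, isConj_iff.2 ⟨⟨c, hc⟩⁻¹, Subtype.ext ?_⟩⟩, rfl⟩
      show c⁻¹ * z * c⁻¹⁻¹ = x
      rw [← hcx]; group
  have h2 : Nat.card ↥(Subgroup.centralizer ({c₀} : Set F.Ct)) = 16 := by
    rw [← F.card_inf]
    refine Nat.card_congr
      { toFun := fun x => ⟨(x.1 : G), mem_cent_iff.2 (congrArg Subtype.val (mem_cent_iff.1 x.2).eq), x.1.2⟩
        invFun := fun x => ⟨⟨x.1, x.2.2⟩, mem_cent_iff.2 (Subtype.ext (mem_cent_iff.1 x.2.1))⟩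
        left_inv := fun x => rfl
        right_inv := fun x => rfl }
  rw [h2] at h
  rw [h1, h]

theorem pairs_t_le (hd : IsConj z (F.f 15)) :
    Nat.card (Pairs z (F.f 3) (F.f 3)) * 16 ≤ Nat.card F.Ct * Nat.card F.Ct := by
  have hle : Nat.card (Pairs z (F.f 3) (F.f 3)) ≤
      Nat.card ({x : G // IsConj z x ∧ x ∈ F.Ct} × F.Ct) := by
    refine Nat.card_le_card_of_injective (fun p =>
      (⟨p.1.1, p.2.1, F.mem_Ct.2 (commute_of_mem_zpowers (orderOf_of_isConj F.orderOf_z p.2.1)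
        (orderOf_of_isConj F.orderOf_t p.2.2.1) F.orderOf_t p.2.2.2).1⟩,
      ⟨p.1.2, F.mem_Ct.2 (commute_of_mem_zpowers (orderOf_of_isConj F.orderOf_z p.2.1)
        (orderOf_of_isConj F.orderOf_t p.2.2.1) F.orderOf_t p.2.2.2).2⟩)) ?_
    intro a b e
    have e1 : a.1.1 = b.1.1 := congrArg (fun q => (q.1 : G)) e
    have e2 : a.1.2 = b.1.2 := congrArg (fun q => (q.2 : G)) e
    exact Subtype.ext (Prod.ext e1 e2)
  rw [Nat.card_prod] at hle
  have h := Nat.mul_le_mul_right 16 hle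
  rw [mul_right_comm, F.card_Zs hG hd] at h
  exact h

/-- The conjugates of `z` are at least `288`. -/
theorem card_class_ge (hd : IsConj z (F.f 15)) : 288 ≤ Nat.card {x : G // IsConj z x} := by
  classical
  let W := {i : Fin 192 // isD i = true}
  have hc := count_D
  simp only [Bool.and_eq_true, Nat.beq_eq, allN_iff, Bool.or_eq_true, Bool.not_eq_true'] at hc
  let P : Fin 192 → ℕ → Bool := fun j v => (isA v || isD v) && !(com j v) && pw j v 1
  have hw : ∀ w : W, ∃ (g : G) (j : Fin 192), g * z * g⁻¹ = F.f w.1 ∧ g * F.f j * g⁻¹ = z ∧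
      isD j = true := by
    intro w
    obtain ⟨g, hg⟩ := isConj_iff.1 (hd.trans (F.conj_D w.2))
    have hcz : Commute z (g * z * g⁻¹) := by rw [hg]; exact (F.commute_z w.1).symm
    obtain ⟨j, hj, ht⟩ := (F.conj g).invol_cases hcz F.mul_self F.ne_one (by
      rw [hg]; exact (F.ne_of_type (Or.inr (Or.inr w.2))).2.2.symm)
    refine ⟨g, j, hg, hj, (F.conj g).isD_of_nC ht ?_⟩
    rw [hj, nC_comm, hg]
    exact F.nC_D w.2
  choose g j hg hj hjD using hw
  have hfib : ∀ w : W, Nat.card {v : Fin 192 // P (j w) v = true} = 12 := by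
    intro w
    rw [card_cnt]
    exact (hc.2 (j w) (j w).2).resolve_left (by rw [hjD w]; decide)
  have hcard : Nat.card (Σ w : W, {v : Fin 192 // P (j w) v = true}) = 288 := by
    rw [Nat.card_sigma]
    simp only [hfib, Finset.sum_const, Finset.card_univ, smul_eq_mul]
    rw [← Nat.card_eq_fintype_card, show Nat.card W = 24 from (card_cnt 192 isD).trans hc.1]
  rw [← hcard]
  have hP : ∀ (w : W) (v : {v : Fin 192 // P (j w) v = true}),
      IsConj z (g w * F.f v.1 * (g w)⁻¹) ∧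
        F.f w.1 ∈ Subgroup.zpowers (z * (g w * F.f v.1 * (g w)⁻¹)) := by
    intro w v
    have hv := v.2
    simp only [P, Bool.and_eq_true, Bool.or_eq_true] at hv
    obtain ⟨⟨hvt, -⟩, hvp⟩ := hv
    constructor
    · refine IsConj.trans ?_ (isConj_iff.2 ⟨g w, rfl⟩)
      rcases hvt with h | h
      · exact F.conj_z_A hG h
      · exact hd.trans (F.conj_D h)
    · have := ((F.conj (g w)).pw_iff (j w) v.1 1).2 hvp
      rw [(F.conj (g w)).f_one] at this
      change g w * z * (g w)⁻¹ ∈ Subgroup.zpowers (g w * F.f (j w) * (g w)⁻¹ * (g w * F.f v.1 * (g w)⁻¹)) at this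
      rwa [hj w, hg w] at this
  refine Nat.card_le_card_of_injective (fun s => ⟨_, (hP s.1 s.2).1⟩) ?_
  rintro ⟨w, v⟩ ⟨w', v'⟩ e
  have e' : g w * F.f v.1 * (g w)⁻¹ = g w' * F.f v'.1 * (g w')⁻¹ := congrArg Subtype.val e
  have hww : w = w' := by
    refine Subtype.ext (F.f_inj ?_)
    exact Cfsg.Agent.Lib.Involutions.Thompson.invol_zpowers_eq
      (p := (z, g w * F.f v.1 * (g w)⁻¹)) (F.orderOf_type (Or.inr (Or.inr w.2)))
      (F.orderOf_type (Or.inr (Or.inr w'.2))) (hP w v).2 (by simp only [e']; exact (hP w' v').2)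
  subst hww
  exact Sigma.ext rfl (heq_of_eq (Subtype.ext (F.f_inj (mul_left_cancel (mul_right_cancel e')))))

end Tab

end Cfsg.Agent.Lib.M12Cent22
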