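import Cfsg.Agent.Lib.M12Cent22.Five
import Cfsg.Agent.Lib.SmallGroups.Sylow

/-!
# A simple group with the centralizer of a 2-central involution of `M12` has order 95040

Owner: helper22.
-/

set_option autoImplicit false
set_option linter.style.haveILetI false

namespace Cfsg.Agent.Lib.M12Cent22

universe u

variable {G : Type u} [Group G] [Finite G] [IsSimpleGroup G] {z : G}

theorem Tab.card_eq (F : Tab z) (hG : ¬ IsMulCommutative G) : Nat.card G = 95040 := by
  classical
  have hord := F.order_eq hG
  by_cases hd : IsConj z (F.f 15)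
  · rcases F.X_cases hG with h | ⟨⟨e⟩⟩ | ⟨⟨e⟩⟩
    · exfalso
      obtain ⟨c, hc, hca⟩ := F.Zs_conj hG hd (F.conj_z_A hG F.isA_110)
        (F.f_mem_Ct (p := 110) (by decide +kernel))
      have hcz : Commute c z := mem_cent_iff.1 (h hc)
      have : F.f 110 = z := by
        have h1 : c * F.f 110 * c⁻¹ = c * z * c⁻¹ := by
          rw [hca, hcz.eq, mul_inv_cancel_right]
        exact mul_left_cancel (mul_right_cancel h1)
      exact (F.ne_of_type (Or.inl F.isA_110)).2.2 this
    · exfalso
      have hct : Nat.card F.Ct = 48 := by
        rw [F.card_Ct, Nat.card_congr e.toEquiv, Nat.card_perm, Nat.card_fin]; rfl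
      have hle := F.pairs_t_le hG hd
      have hge := F.card_class_ge hG hd
      have hmul := Cfsg.Agent.Lib.Involutions.Thompson.card_class_mul z
      rw [F.card_centralizer_z hG] at hmul
      rw [F.pairs_z_M hG hd, hct] at hord
      rw [hct] at hle
      omega
    · have hct : Nat.card F.Ct = 240 := by
        rw [F.card_Ct, Nat.card_congr e.toEquiv, Nat.card_perm, Nat.card_fin]; rfl
      rw [hord, F.pairs_z_M hG hd, hct, F.pairs_t_five hG hd e]
  · exfalso
    rcases F.X_cases hG with h | ⟨⟨e⟩⟩ | ⟨⟨e⟩⟩
    · have hct : Nat.card F.Ct = 16 := by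
        rw [← F.card_inf, inf_eq_right.2 h]
      rw [hct, F.pairs_z_U hG hd, F.pairs_t_small hG h] at hord
      have hidx : (Subgroup.centralizer ({z} : Set G)).index = 7 := by
        have := Subgroup.card_mul_index (Subgroup.centralizer ({z} : Set G))
        rw [F.card_centralizer_z hG, hord] at this
        omega
      have htop := Cfsg.Agent.Lib.SmallGroups.Sylow.eq_top_of_index hG
        (H := Subgroup.centralizer ({z} : Set G)) (by rw [hidx, hord]; decide)
      rw [htop, Subgroup.index_top] at hidx
      omega
    · exact F.not_conj_of_D hG hd (F.a_conj_z hG (second_of_equiv e second_four))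
    · exact F.not_conj_of_D hG hd (F.a_conj_z hG (second_of_equiv e second_five))

end Cfsg.Agent.Lib.M12Cent22
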