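import Cfsg.Agent.Lib.M12Cent22.Fusion

/-!
# The centralizer of the involution `t` of type `B`

Throughout, `t = F.f 3`, its centralizer is `Ct F`, and `F.f 110`, `F.f 145` are the elements of
type `A` commuting with `t`.

Owner: helper22.
-/

set_option autoImplicit false
set_option linter.style.haveILetI false
set_option linter.unusedSectionVars false

namespace Cfsg.Agent.Lib.M12Cent22

open Cfsg.Agent.Lib.Involutions.Basic

namespace Tab

variable {G : Type*} [Group G] {z : G} (F : Tab z)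

include F

/-- The centralizer of `t = F.f 3`. -/
def Ct : Subgroup G := Subgroup.centralizer ({F.f 3} : Set G)

theorem mem_Ct {x : G} : x ∈ F.Ct ↔ Commute x (F.f 3) := mem_cent_iff

theorem isB_three : isB (3 : Fin 192) = true := by decide +kernel

theorem isB_43 : isB (43 : Fin 192) = true := by decide +kernel

theorem isA_110 : isA (110 : Fin 192) = true := by decide +kernel

theorem isA_145 : isA (145 : Fin 192) = true := by decide +kernel

theorem orderOf_t : orderOf (F.f 3) = 2 := F.orderOf_type (Or.inr (Or.inl F.isB_three))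

theorem t_ne : F.f 3 ≠ 1 ∧ F.f 3 ≠ z :=
  ⟨(F.ne_of_type (Or.inr (Or.inl F.isB_three))).2.1,
    (F.ne_of_type (Or.inr (Or.inl F.isB_three))).2.2⟩

theorem f_mem_Ct {p : Fin 192} (h : com 3 p = true) : F.f p ∈ F.Ct :=
  F.mem_Ct.2 (F.comm_iff.2 (com_symm h))

theorem z_mem_Ct : z ∈ F.Ct := F.mem_Ct.2 (F.commute_z 3).symm

theorem exists_R {x : G} (hx : x ∈ F.Ct) (hxz : Commute x z) :
    ∃ p : Fin 192, com 3 p = true ∧ F.f p = x := by
  obtain ⟨p, rfl⟩ := F.exists_idx hxz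
  exact ⟨p, F.comm_iff.1 (F.mem_Ct.1 hx).symm, rfl⟩

theorem f_comm_z {p : Fin 192} : Commute (F.f p) z := F.commute_z p

theorem card_inf : Nat.card ↥(Subgroup.centralizer ({z} : Set G) ⊓ F.Ct) = 16 :=
  F.nC_B F.isB_three

theorem R_cases {p : Fin 192} (h : com 3 p = true) : isD p = false ∧
    (isA p = true → p = 110 ∨ p = 145) ∧ T p p < 2 ∧ inS p = true ∧
    ((∀ q : Fin 192, com 3 q = true → com p q = true) → p = 0 ∨ p = 1 ∨ p = 3 ∨ p = 43) := by
  have := chk_R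
  simp only [Bool.and_eq_true, allN_iff] at this
  obtain ⟨⟨⟨⟨⟨⟨⟨⟨⟨⟨⟨⟨⟨⟨⟨⟨hall, -⟩, -⟩, -⟩, -⟩, -⟩, -⟩, -⟩, -⟩, -⟩, -⟩, -⟩, -⟩, -⟩, -⟩, -⟩, -⟩ := this
  have h' := hall p p.2
  simp only [Bool.or_eq_true, Bool.not_eq_true', h, Bool.true_eq_false, false_or,
    Bool.and_eq_true, anyN_iff, Nat.blt, Nat.ble_eq, Nat.beq_eq] at h'
  obtain ⟨⟨⟨⟨h1, h2⟩, h3⟩, h4⟩, h5⟩ := h'
  refine ⟨h2, fun ha => ?_, h4, h1, fun hc => ?_⟩
  · rcases h3 with (h3 | h3) | h3
    · rw [ha] at h3; simp at h3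
    · exact Or.inl (Fin.ext h3)
    · exact Or.inr (Fin.ext h3)
  · rcases h5 with (((h5 | h5) | h5) | h5) | ⟨q, hq, hq1, hq2⟩
    · exact Or.inl (Fin.ext h5)
    · exact Or.inr (Or.inl (Fin.ext h5))
    · exact Or.inr (Or.inr (Or.inl (Fin.ext h5)))
    · exact Or.inr (Or.inr (Or.inr (Fin.ext h5)))
    · exfalso
      have := hc ⟨q, hq⟩ hq1
      simp [this] at hq2

variable [Finite G] [IsSimpleGroup G] (hG : ¬ IsMulCommutative G)

include hG

/-- `z`-conjugates commuting with `t`. -/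
theorem nC_t {w : G} (hw : IsConj z w) (hc : Commute w (F.f 3)) :
    nC w (F.f 3) = 16 ∨ (nC w (F.f 3) = 8 ∧ ¬ IsConj z (F.f 15)) := by
  obtain ⟨g, rfl⟩ := isConj_iff.1 hw
  have hnt : ¬ IsConj z (F.f 3) := F.not_conj_B F.isB_three
  obtain ⟨j, hj, htype⟩ := (F.conj g).invol_cases hc.symm (invol_mul_self F.orderOf_t) F.t_ne.1
    (fun e => hnt (e ▸ hw))
  rw [← hj]
  rcases htype with h | h | h
  · exact absurd (hw.trans (hj ▸ (F.conj g).conj_z_A hG h)) hnt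
  · exact Or.inl ((F.conj g).nC_B h)
  · refine Or.inr ⟨(F.conj g).nC_D h, fun hd => hnt ?_⟩
    have h15 : IsConj (F.f 15) ((F.conj g).f 15) := isConj_iff.2 ⟨g, rfl⟩
    have := hd.trans (h15.trans ((F.conj g).conj_D h))
    rwa [hj] at this

theorem nC_t_le {w : G} (hw : IsConj z w) (hc : Commute w (F.f 3)) : nC w (F.f 3) ≤ 16 := by
  rcases F.nC_t hG hw hc with h | ⟨h, -⟩ <;> omega

/-- The order of the centralizer of `t` has 2-part `16`, and its 2-subgroups are conjugate into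
the centralizer of `z`. -/
theorem sylow_Ct : (∃ m : ℕ, Odd m ∧ Nat.card F.Ct = 16 * m) ∧
    ∀ S : Subgroup G, S ≤ F.Ct → IsPGroup 2 S →
      ∃ c ∈ F.Ct, ∀ s ∈ S, Commute (c * s * c⁻¹) z := by
  haveI : Fact (Nat.Prime 2) := ⟨Nat.prime_two⟩
  set R : Subgroup G := Subgroup.centralizer ({z} : Set G) ⊓ F.Ct with hR
  have hRcard : Nat.card R = 16 := F.card_inf
  have hRsub : IsPGroup 2 ↥(R.subgroupOf F.Ct) := IsPGroup.of_card (n := 4) (by
    rw [Nat.card_congr (Subgroup.subgroupOfEquivOfLe (inf_le_right : R ≤ F.Ct)).toEquiv, hRcard]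
    norm_num)
  obtain ⟨P, hP⟩ := hRsub.exists_le_sylow
  set P' : Subgroup G := (P : Subgroup F.Ct).map F.Ct.subtype with hP'
  have hRP : R ≤ P' := fun x hx => ⟨⟨x, hx.2⟩, hP hx, rfl⟩
  have hP'2 : IsPGroup 2 P' := P.isPGroup'.map _
  have hP'le : P' ≤ F.Ct := Subgroup.map_subtype_le _
  obtain ⟨g, hg⟩ := F.exists_conj_commute hP'2
  set w : G := g⁻¹ * z * g with hw
  have hwz : IsConj z w := isConj_iff.2 ⟨g⁻¹, by rw [hw]; group⟩
  have hwc : ∀ s ∈ P', Commute s w := by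
    intro s hs
    rw [← commute_conj_iff g]
    rw [hw, show g * (g⁻¹ * z * g) * g⁻¹ = z by group]
    exact hg s hs
  have htP : F.f 3 ∈ P' := hRP ⟨F.mem_cent 3, F.mem_Ct.2 (Commute.refl _)⟩
  have hle : P' ≤ Subgroup.centralizer ({w} : Set G) ⊓ Subgroup.centralizer ({F.f 3} : Set G) :=
    fun s hs => ⟨mem_cent_iff.2 (hwc s hs), hP'le hs⟩
  have h16 : Nat.card P' ≤ 16 :=
    (Subgroup.card_le_of_le hle).trans (F.nC_t_le hG hwz (hwc _ htP).symm)
  have hPR : P' = R := (Subgroup.eq_of_le_of_card_ge hRP (by omega)).symm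
  refine ⟨⟨(P : Subgroup F.Ct).index, ?_, ?_⟩, fun S hS h2 => ?_⟩
  · rw [← Nat.not_even_iff_odd, even_iff_two_dvd]
    exact P.not_dvd_index
  · rw [← Subgroup.card_mul_index (P : Subgroup F.Ct), ← hRcard, ← hPR, hP',
      Subgroup.card_map_of_injective F.Ct.subtype_injective]
  · have hS2 : IsPGroup 2 ↥(S.subgroupOf F.Ct) :=
      h2.of_equiv (Subgroup.subgroupOfEquivOfLe hS).symm
    obtain ⟨P₂, hP₂⟩ := hS2.exists_le_sylow
    obtain ⟨c, hc⟩ := MulAction.exists_smul_eq F.Ct P₂ P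
    refine ⟨c, c.2, fun s hs => ?_⟩
    have h1 : c * (⟨s, hS hs⟩ : F.Ct) * c⁻¹ ∈ (P : Subgroup F.Ct) := by
      rw [← hc, Sylow.coe_subgroup_smul, Subgroup.mem_smul_pointwise_iff_exists]
      exact ⟨_, hP₂ (show (⟨s, hS hs⟩ : F.Ct) ∈ S.subgroupOf F.Ct from hs), by
        simp [MulAut.conj_apply]⟩
    have h2 : (c : G) * s * (c : G)⁻¹ ∈ P' := ⟨_, h1, rfl⟩
    rw [hPR] at h2
    exact mem_cent_iff.1 h2.1

/-- A `z`-conjugate commuting with `t` is conjugate in the centralizer of `t` to `z` or to the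
element `F.f 110` of type `A`. -/
theorem Zs_cases {r : G} (hr : IsConj z r) (hrt : r ∈ F.Ct) :
    ∃ c ∈ F.Ct, c * r * c⁻¹ = z ∨ c * r * c⁻¹ = F.f 110 := by
  obtain ⟨c, hc, hcz⟩ := (F.sylow_Ct hG).2 (Subgroup.zpowers r)
    (by rw [Subgroup.zpowers_le]; exact hrt) (IsPGroup.of_card (n := 1) (by
      obtain ⟨g, rfl⟩ := isConj_iff.1 hr
      rw [Nat.card_zpowers, orderOf_conj_eq, F.orderOf_z, pow_one]))
  have hcz' := hcz r (Subgroup.mem_zpowers r)
  have hcm : c * r * c⁻¹ ∈ F.Ct := mul_mem (mul_mem hc hrt) (inv_mem hc)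
  have hconj : IsConj z (c * r * c⁻¹) := hr.trans (isConj_iff.2 ⟨c, rfl⟩)
  have ho : orderOf (c * r * c⁻¹) = 2 := by
    obtain ⟨g, hg⟩ := isConj_iff.1 hconj
    rw [← hg, orderOf_conj_eq, F.orderOf_z]
  by_cases he : c * r * c⁻¹ = z
  · exact ⟨c, hc, Or.inl he⟩
  obtain ⟨p, hp, hpe⟩ := F.exists_R hcm hcz'
  obtain ⟨i, hi, htype⟩ := F.invol_cases hcz' (invol_mul_self ho) (invol_ne_one ho) he
  obtain rfl : i = p := F.f_inj (hi.trans hpe.symm)
  obtain ⟨hD, hA, -⟩ := F.R_cases hp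
  rcases htype with h | h | h
  · rcases hA h with rfl | rfl
    · exact ⟨c, hc, Or.inr hpe.symm⟩
    · refine ⟨(F.f 21)⁻¹ * c, mul_mem (inv_mem (F.f_mem_Ct (by decide +kernel))) hc, Or.inr ?_⟩
      have he2 : F.f 21 * F.f 110 = F.f 145 * F.f 21 := F.eq_iff.2 (by decide +kernel)
      calc (F.f 21)⁻¹ * c * r * ((F.f 21)⁻¹ * c)⁻¹ = (F.f 21)⁻¹ * (c * r * c⁻¹) * F.f 21 := by group
        _ = (F.f 21)⁻¹ * (F.f 145 * F.f 21) := by rw [hpe, mul_assoc]
        _ = F.f 110 := by rw [← he2]; group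
  · exact absurd (hpe ▸ hconj) (F.not_conj_B h)
  · rw [h] at hD; simp at hD

/-- The product of `t` with a conjugate of `z` in its centralizer is not conjugate to `z`. -/
theorem not_conj_mul {r : G} (hr : IsConj z r) (hrt : r ∈ F.Ct) : ¬ IsConj z (F.f 3 * r) := by
  intro h
  obtain ⟨c, hc, hcr⟩ := F.Zs_cases hG hr hrt
  have h1 : c * (F.f 3 * r) * c⁻¹ = F.f 3 * (c * r * c⁻¹) := by
    rw [show c * (F.f 3 * r) * c⁻¹ = c * F.f 3 * c⁻¹ * (c * r * c⁻¹) by group,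
      (F.mem_Ct.1 hc).eq, mul_inv_cancel_right]
  have h2 : IsConj z (F.f 3 * (c * r * c⁻¹)) := h.trans (isConj_iff.2 ⟨c, h1⟩)
  rcases hcr with e | e
  · refine F.not_conj_B F.isB_43 ?_
    have : F.f 3 * z = F.f 43 := by
      refine Eq.trans ?_ ((F.mul' (i := 3) (j := 1) (k := 43) (by decide +kernel)))
      exact congrArg (F.f 3 * ·) F.f_one.symm
    rwa [e, this] at h2
  · refine F.not_conj_B (i := tm 3 110) (by decide +kernel) ?_
    rwa [e, F.f_mul] at h2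

/-- When `D` meets the class of `z`, the conjugates of `z` in the centralizer of `t` are
conjugate there. -/
theorem Zs_conj (hd : IsConj z (F.f 15)) {r : G} (hr : IsConj z r) (hrt : r ∈ F.Ct) :
    ∃ c ∈ F.Ct, c * r * c⁻¹ = z := by
  haveI : Fact (Nat.Prime 2) := ⟨Nat.prime_two⟩
  have hn : nC r (F.f 3) = 16 :=
    (F.nC_t hG hr (F.mem_Ct.1 hrt)).resolve_right fun h => h.2 hd
  set X : Subgroup G := Subgroup.centralizer ({r} : Set G) ⊓ F.Ct with hX
  have hXc : Nat.card X = 16 := hn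
  obtain ⟨c, hc, hcz⟩ := (F.sylow_Ct hG).2 X inf_le_right
    (IsPGroup.of_card (n := 4) (hXc.trans (by norm_num)))
  have hmap : X.map (MulAut.conj c).toMonoidHom =
      Subgroup.centralizer ({z} : Set G) ⊓ F.Ct := by
    refine Subgroup.eq_of_le_of_card_ge ?_ ?_
    · rintro _ ⟨x, hx, rfl⟩
      exact ⟨mem_cent_iff.2 (hcz x hx), F.Ct.mul_mem (F.Ct.mul_mem hc hx.2) (F.Ct.inv_mem hc)⟩
    · rw [Subgroup.card_map_of_injective (MulAut.conj c).injective, hXc]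
      exact F.card_inf.le
  refine ⟨c, hc, ?_⟩
  have hrX : r ∈ X := ⟨mem_cent_iff.2 (Commute.refl r), hrt⟩
  obtain ⟨p, hp, hpe⟩ := F.exists_R (mul_mem (mul_mem hc hrt) (inv_mem hc)) (hcz r hrX)
  have hcen : ∀ q : Fin 192, com 3 q = true → com p q = true := by
    intro q hq
    refine F.comm_iff.1 ?_
    have : F.f q ∈ X.map (MulAut.conj c).toMonoidHom := by
      rw [hmap]; exact ⟨F.mem_cent q, F.f_mem_Ct hq⟩
    obtain ⟨x, hx, hxe⟩ := this
    rw [hpe, ← hxe]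
    show Commute (c * r * c⁻¹) (c * x * c⁻¹)
    rw [commute_conj_iff]
    exact (mem_cent_iff.1 hx.1).symm
  have hconj : IsConj z (c * r * c⁻¹) := hr.trans (isConj_iff.2 ⟨c, rfl⟩)
  rcases (F.R_cases hp).2.2.2.2 hcen with rfl | rfl | rfl | rfl
  · exfalso
    rw [← hpe, F.f_zero] at hconj
    exact F.ne_one (isConj_one_right.1 hconj.symm)
  · exact hpe.symm.trans F.f_one
  · exact absurd (hpe ▸ hconj) (F.not_conj_B F.isB_three)
  · exact absurd (hpe ▸ hconj) (F.not_conj_B F.isB_43)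

/-- When `D` avoids the class of `z`, the element of type `A` is not conjugate to `z` in the
centralizer of `t`. -/
theorem not_conj_of_D (hd : ¬ IsConj z (F.f 15)) : ¬ ∃ c ∈ F.Ct, c * F.f 110 * c⁻¹ = z := by
  rintro ⟨c, hc, hca⟩
  obtain ⟨g, hg⟩ := isConj_iff.1 (F.conj_D_B hG hd)
  set s : G := g⁻¹ * z * g with hs
  have hsz : IsConj z s := isConj_iff.2 ⟨g⁻¹, by rw [hs]; group⟩
  have hgs : g * s * g⁻¹ = z := by rw [hs]; group
  have hst : Commute s (F.f 3) := by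
    rw [← commute_conj_iff g, hgs, hg]
    exact (F.commute_z 15).symm
  have hn : nC s (F.f 3) = 8 := by
    rw [← nC_conj g, hgs, hg]
    exact F.nC_D (by decide +kernel)
  obtain ⟨b, hb, hbs⟩ := F.Zs_cases hG hsz (F.mem_Ct.2 hst)
  have key : ∀ d ∈ F.Ct, d * s * d⁻¹ = z → False := by
    intro d hd' e
    have ht : d * F.f 3 * d⁻¹ = F.f 3 := by rw [(F.mem_Ct.1 hd').eq, mul_inv_cancel_right]
    rw [← nC_conj d, e, ht, F.nC_B F.isB_three] at hn
    norm_num at hn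
  rcases hbs with e | e
  · exact key b hb e
  · refine key (c * b) (mul_mem hc hb) ?_
    rw [← hca, ← e]; group

end Tab

end Cfsg.Agent.Lib.M12Cent22
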