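import Cfsg.Agent.Lib.M12Cent22.Table

/-!
# Finite facts about the centralizer of a 2-central involution of `M12`

In the table, `1` is the central involution; the other involutions fall into three classes, of
types `A` (6 elements, centralizer of order 32), `B` (12 elements, 16) and `D` (24 elements, 8).

Owner: helper22.
-/

set_option autoImplicit false

namespace Cfsg.Agent.Lib.M12Cent22

open Cfsg.Agent.Lib.Computation

/-- Membership in a list of indices. -/
def mem (l : List ℕ) (i : ℕ) : Bool := l.any fun x => Nat.beq x i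

/-- The indices of type `A`. -/
def isA (i : ℕ) : Bool := mem [19, 44, 67, 92, 110, 145] i

/-- The indices of type `B`. -/
def isB (i : ℕ) : Bool := mem [3, 11, 34, 43, 51, 69, 77, 91, 106, 119, 123, 131] i

/-- The indices of type `D`. -/
def isD (i : ℕ) : Bool := Nat.blt 1 i && Nat.beq (T i i) 0 && !(isA i) && !(isB i)

/-- A Sylow 2-subgroup. -/
def inS (i : ℕ) : Bool := mem [0, 1, 3, 7, 10, 11, 14, 19, 21, 23, 27, 29, 34, 35, 39, 43, 44, 49, 51, 55, 58,
    59, 62, 67, 69, 71, 75, 77, 82, 83, 87, 91, 92, 97, 99, 103, 106, 107, 110, 115,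
    117, 119, 123, 125, 130, 131, 135, 139, 140, 145, 147, 151, 154, 155, 162, 164,
    166, 170, 172, 177, 178, 182, 186, 187] i

/-- The subgroup generated by the involutions of type `A` and `B`. -/
def inQ (i : ℕ) : Bool := mem [0, 1, 3, 11, 19, 21, 29, 34, 43, 44, 51, 59, 67, 69, 77, 82, 91, 92, 103, 106,
    110, 119, 123, 131, 135, 145, 151, 154, 166, 170, 178, 182] i

/-- Commuting indices. -/
def com (i j : ℕ) : Bool := Nat.beq (T i j) (T j i)

/-- The number of `i < n` with `f i`. -/
def cnt (n : ℕ) (f : ℕ → Bool) : ℕ :=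
  Nat.rec 0 (fun i acc => Bool.rec (motive := fun _ => ℕ) acc (Nat.succ acc) (f i)) n

/-- The number of `(i, j)` below `n` with `f i j`. -/
def cnt2 (n : ℕ) (f : ℕ → ℕ → Bool) : ℕ :=
  Nat.rec 0 (fun i acc => Nat.add (cnt n (f i)) acc) n

/-- The powers. -/
def powT (w m : ℕ) : ℕ := Nat.rec 0 (fun _ acc => forceNat acc fun a => T a w) m

/-- Some power of the product of `u` and `v` is `k`. -/
def pw (u v k : ℕ) : Bool := forceNat (T u v) fun w => anyN 24 fun m => Nat.beq (powT w m) k

/-- The first count of pairs, for the case with a single class meeting `A`. -/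
def pairsU (u v : ℕ) : Bool := (Nat.beq u 1 || isA u) && ((isB v || isD v) && pw u v 1)

/-- The first count of pairs, for the case `A ∪ D`. -/
def pairsM (u v : ℕ) : Bool := (Nat.beq u 1 || isA u || isD u) && (isB v && pw u v 1)

/-- The second count of pairs. -/
def pairsR (u v : ℕ) : Bool :=
  (Nat.beq u 1 || isA u) && com 3 u && (isB v && com 3 v && pw u v 3)

theorem chk_invol : (allN 192 fun i => !(Nat.beq (T i i) 0) || Nat.blt i 2 || isA i || isB i ||
    isD i) = true := by decide +kernel

theorem chk_cn : (allN 192 fun i =>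
    (!isA i || (Nat.blt 1 i && Nat.beq (T i i) 0 && Nat.beq (cnt 192 (com i)) 32)) &&
    (!isB i || (Nat.blt 1 i && Nat.beq (T i i) 0 && Nat.beq (cnt 192 (com i)) 16)) &&
    (!isD i || Nat.beq (cnt 192 (com i)) 8)) = true := by decide +kernel

theorem chk_conj : (allN 192 fun i =>
    (!isA i || anyN 192 fun g => Nat.beq (T g 110) (T i g)) &&
    (!isB i || anyN 192 fun g => Nat.beq (T g 3) (T i g)) &&
    (!isD i || anyN 192 fun g => Nat.beq (T g 15) (T i g))) = true := by decide +kernel

theorem chk_B : (allN 192 fun y => !isB y ||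
    ((allN 192 fun p => !com y p || allN 192 fun q => !com y q || com p q ||
      Nat.beq (T p q) (T 1 (T q p))) &&
    anyN 192 fun p => com y p && anyN 192 fun q => com y q && !(com p q))) = true := by
  decide +kernel

theorem chk_D : (allN 192 fun y => !isD y ||
    ((allN 192 fun p => !com y p || Nat.blt p 2 || isD p || (isA p &&
      allN 192 fun q => !(com y q && isA q) || Nat.beq q p || Nat.beq (T p q) 1)) &&
    anyN 192 fun p => com y p && isA p && com y (T 1 p) && isA (T 1 p))) = true := by
  decide +kernel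

theorem chk_pow : (allN 192 fun w => Nat.beq (powT w 24) 0) = true := by decide +kernel

theorem chk_S : (inS 0 && Nat.beq (cnt 192 inS) 64 && (allN 192 fun i => !inS i ||
    (Nat.beq (powT i 8) 0 && allN 192 fun j => !inS j || inS (T i j))) &&
    allN 192 fun i => Nat.blt i 2 || anyN 192 fun j => inS j && !(com i j)) = true := by
  decide +kernel

theorem chk_Q : (inQ 0 && Nat.beq (cnt 192 inQ) 32 && allN 192 fun i => !inQ i ||
    (inS i && !isD i && allN 192 fun j => !inQ j || inQ (T i j))) = true := by decide +kernel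

theorem chk_R : ((allN 192 fun p => !com 3 p || (inS p && !isD p && (!isA p || Nat.beq p 110 ||
      Nat.beq p 145) && Nat.blt (T p p) 2 &&
      (Nat.beq p 0 || Nat.beq p 1 || Nat.beq p 3 || Nat.beq p 43 ||
        anyN 192 fun q => com 3 q && !(com p q)))) &&
    Nat.beq (cnt 192 (com 3)) 16 && isB 3 && isB 43 && Nat.beq (T 1 3) 43 &&
    Nat.beq (T 1 110) 145 && isA 110 && isA 145 && com 3 110 && com 3 145 &&
    isB (T 3 110) && isB (T 3 145) && com 3 21 && Nat.beq (T 21 110) (T 145 21) &&
    com 3 69 && isB 69 && isB (T 3 69)) = true := by decide +kernel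

theorem count_U : Nat.beq (cnt2 192 pairsU) 48 = true := by decide +kernel

theorem count_M : Nat.beq (cnt2 192 pairsM) 240 = true := by decide +kernel

theorem count_R : Nat.beq (cnt2 192 pairsR) 3 = true := by decide +kernel

theorem count_D : (Nat.beq (cnt 192 isD) 24 && allN 192 fun u => !isD u ||
    Nat.beq (cnt 192 fun v => (isA v || isD v) && !(com u v) && pw u v 1) 12) = true := by
  decide +kernel

/-- The quotient map of the centralizer of the involution `3` modulo that involution. -/
def phiN : ℕ → DihedralGroup 4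
  | 0 => DihedralGroup.r 0
  | 1 => DihedralGroup.r 2
  | 3 => DihedralGroup.r 0
  | 21 => DihedralGroup.r 1
  | 29 => DihedralGroup.r 3
  | 43 => DihedralGroup.r 2
  | 51 => DihedralGroup.sr 0
  | 69 => DihedralGroup.sr 3
  | 77 => DihedralGroup.sr 1
  | 91 => DihedralGroup.sr 2
  | 106 => DihedralGroup.sr 1
  | 110 => DihedralGroup.sr 2
  | 131 => DihedralGroup.sr 3
  | 145 => DihedralGroup.sr 0
  | 154 => DihedralGroup.r 3
  | 178 => DihedralGroup.r 1
  | _ => DihedralGroup.r 0

set_option synthInstance.maxSize 4000 in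
theorem chk_phi : ((allN 192 fun p => !com 3 p ||
      ((allN 192 fun q => !com 3 q || decide (phiN (T p q) = phiN p * phiN q)) &&
      (decide (phiN p ≠ DihedralGroup.r 0) || Nat.beq p 0 || Nat.beq p 3))) = true) ∧
    ∀ d : DihedralGroup 4, (anyN 192 fun p => com 3 p && decide (phiN p = d)) = true := by
  refine ⟨?_, ?_⟩ <;> decide +kernel

theorem allN_of_cnt {n : ℕ} {f : ℕ → Bool} :
    cnt n f = ((Finset.range n).filter fun i => f i = true).card := by
  induction n with
  | zero => rfl
  | succ n ih =>
    rw [Finset.range_add_one, Finset.filter_insert]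
    change Bool.rec (motive := fun _ => ℕ) (cnt n f) (Nat.succ (cnt n f)) (f n) = _
    cases hf : f n
    · rw [if_neg (by simp)]; exact ih
    · rw [if_pos rfl, Finset.card_insert_of_notMem (by simp)]
      exact congrArg (· + 1) ih

theorem card_cnt (n : ℕ) (f : ℕ → Bool) : Nat.card {i : Fin n // f i = true} = cnt n f := by
  rw [allN_of_cnt, Nat.card_eq_fintype_card, Fintype.card_subtype]
  refine Finset.card_bij (fun i _ => (i : ℕ)) (fun i hi => ?_) (fun i _ j _ h => Fin.ext h)
    (fun j hj => ?_)
  · simpa using hi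
  · simp only [Finset.mem_filter, Finset.mem_range] at hj
    exact ⟨⟨j, hj.1⟩, by simpa using hj.2, rfl⟩

theorem card_cnt2 (n : ℕ) (f : ℕ → ℕ → Bool) :
    Nat.card {p : Fin n × Fin n // f p.1 p.2 = true} = cnt2 n f := by
  rw [Nat.card_congr
    { toFun := fun p => (⟨p.1.1, p.1.2, p.2⟩ : Σ i : Fin n, {j : Fin n // f i j = true})
      invFun := fun s => ⟨(s.1, s.2.1), s.2.2⟩
      left_inv := fun p => rfl
      right_inv := fun s => rfl }, Nat.card_sigma]
  simp only [card_cnt]
  rw [Fin.sum_univ_eq_sum_range (fun i => cnt n (f i))]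
  have : ∀ m, (∑ i ∈ Finset.range m, cnt n (f i)) =
      Nat.rec (motive := fun _ => ℕ) 0 (fun i acc => Nat.add (cnt n (f i)) acc) m := by
    intro m
    induction m with
    | zero => rfl
    | succ m ih => rw [Finset.sum_range_succ, ih, add_comm]; rfl
  exact this n

end Cfsg.Agent.Lib.M12Cent22
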