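import Mathlib

/-!
# Finite facts about `S₄` and `S₅`

Owner: helper22.
-/

set_option autoImplicit false

namespace Cfsg.Agent.Lib.M12Cent22

abbrev P5 := Equiv.Perm (Fin 5)

theorem card_five : Fintype.card {p : P5 × P5 //
    (p.1 * p.1 = 1 ∧ p.1 ≠ 1 ∧ Equiv.Perm.sign p.1 = 1) ∧ p.2 * p.2 = 1 ∧
      (p.1 * p.2) ^ 15 = 1} = 195 := by decide +kernel

theorem class_five : ∀ d u : P5, d * d = 1 → d ≠ 1 → Equiv.Perm.sign d = 1 → u * u = 1 → u ≠ 1 →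
    Equiv.Perm.sign u = 1 → ∃ g : P5, g * d = u * g := by decide +kernel

theorem second_four : ∀ r : Equiv.Perm (Fin 4), r * r ≠ 1 → r * r * (r * r) = 1 →
    ∃ g : Equiv.Perm (Fin 4), g * (r * r) * g⁻¹ ≠ r * r ∧
      g * (r * r) * g⁻¹ * (r * r) = r * r * (g * (r * r) * g⁻¹) := by decide +kernel

theorem second_five : ∀ r : P5, r * r ≠ 1 → r * r * (r * r) = 1 →
    ∃ g : P5, g * (r * r) * g⁻¹ ≠ r * r ∧
      g * (r * r) * g⁻¹ * (r * r) = r * r * (g * (r * r) * g⁻¹) := by decide +kernel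

end Cfsg.Agent.Lib.M12Cent22
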