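import Cfsg.Agent.Lib.M12Cent22.Count
import Cfsg.Agent.Lib.M12Cent22.PermFacts

/-!
# The second count when the quotient of the centralizer is `S₅`

Owner: helper22.
-/

set_option autoImplicit false
set_option linter.style.haveILetI false
set_option linter.unusedSectionVars false

namespace Cfsg.Agent.Lib.M12Cent22

open Cfsg.Agent.Lib.Involutions.Basic

universe u

/-- Transfer of the property used for `a_conj_z` along an isomorphism. -/
theorem second_of_equiv {X Y : Type*} [Group X] [Group Y] (e : X ≃* Y)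
    (h : ∀ r : Y, r * r ≠ 1 → r * r * (r * r) = 1 →
      ∃ g, g * (r * r) * g⁻¹ ≠ r * r ∧ g * (r * r) * g⁻¹ * (r * r) = r * r * (g * (r * r) * g⁻¹)) :
    ∀ r : X, r * r ≠ 1 → r * r * (r * r) = 1 →
      ∃ g, g * (r * r) * g⁻¹ ≠ r * r ∧ Commute (g * (r * r) * g⁻¹) (r * r) := by
  intro r h1 h2
  obtain ⟨g, hg1, hg2⟩ := h (e r) (fun h' => h1 (e.injective (by rw [map_mul, map_one]; exact h')))
    (by rw [← map_mul, ← map_mul, h2, map_one])
  refine ⟨e.symm g, fun h' => hg1 ?_, e.injective ?_⟩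
  · have := congrArg e h'
    simpa using this
  · simpa using hg2

theorem odd_orderOf_iff (p : P5) : Odd (orderOf p) ↔ p ^ 15 = 1 := by
  constructor
  · intro h
    refine orderOf_dvd_iff_pow_eq_one.1 ?_
    have h1 : orderOf p ∣ 8 * 15 := by
      have := orderOf_dvd_natCard p
      rwa [Nat.card_perm, Nat.card_fin] at this
    exact Nat.Coprime.dvd_of_dvd_mul_left ((Nat.coprime_two_right.2 h).pow_right 3) h1
  · intro h
    exact (by decide : Odd 15).of_dvd_nat (orderOf_dvd_of_pow_eq_one h)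

namespace Tab

variable {G : Type u} [Group G] {z : G} (F : Tab z)

include F

variable [Finite G] [IsSimpleGroup G] (hG : ¬ IsMulCommutative G)

include hG

/-- Pairs in the quotient. -/
theorem pairs_t_five (hd : IsConj z (F.f 15)) (e : (F.Ct ⧸ F.K) ≃* P5) :
    Nat.card (Pairs z (F.f 3) (F.f 3)) = 195 := by
  classical
  set c₀ : F.Ct := ⟨z, F.z_mem_Ct⟩ with hc₀
  have hzconj : ∀ r : F.Ct, IsConj z (r : G) → IsConj F.zX (F.π r) := by
    intro r hr
    obtain ⟨c, hc, hcr⟩ := F.Zs_conj hG hd hr r.2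
    refine F.π.map_isConj (isConj_iff.2 ⟨⟨c, hc⟩⁻¹, Subtype.ext ?_⟩)
    show c⁻¹ * z * c⁻¹⁻¹ = (r : G)
    refine Eq.trans (congrArg (fun q => c⁻¹ * q * c⁻¹⁻¹) hcr.symm) ?_
    group
  have hd1 : e F.zX * e F.zX = 1 := by rw [← map_mul, invol_mul_self F.orderOf_zX, map_one]
  have hd2 : e F.zX ≠ 1 := fun h =>
    invol_ne_one F.orderOf_zX (e.injective (h.trans (map_one e).symm))
  have hd3 : Equiv.Perm.sign (e F.zX) = 1 := by
    have hsq : F.π ⟨F.f 21, F.f_mem_Ct (by decide +kernel)⟩ *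
        F.π ⟨F.f 21, F.f_mem_Ct (by decide +kernel)⟩ = F.zX := by
      rw [← map_mul]
      exact congrArg F.π (Subtype.ext ((F.mul' (k := 1) (by decide +kernel)).trans F.f_one))
    rw [← hsq, map_mul, map_mul]
    exact Int.units_mul_self _
  let Q := {p : (F.Ct ⧸ F.K) × (F.Ct ⧸ F.K) //
    IsConj F.zX p.1 ∧ p.2 * p.2 = 1 ∧ Odd (orderOf (p.1 * p.2))}
  have hQ : Nat.card Q = 195 := by
    rw [← card_five, ← Nat.card_eq_fintype_card]
    refine Nat.card_congr ((e.toEquiv.prodCongr e.toEquiv).subtypeEquiv fun p => ?_)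
    show _ ↔ (e p.1 * e p.1 = 1 ∧ e p.1 ≠ 1 ∧ Equiv.Perm.sign (e p.1) = 1) ∧
      e p.2 * e p.2 = 1 ∧ (e p.1 * e p.2) ^ 15 = 1
    rw [← map_mul e p.2, MulEquiv.map_eq_one_iff, ← map_mul e p.1 p.2,
      ← odd_orderOf_iff, MulEquiv.orderOf_eq]
    refine and_congr_left' ⟨fun h => ?_, fun ⟨h1, h2, h3⟩ => ?_⟩
    · obtain ⟨g, hg⟩ := isConj_iff.1 h
      rw [← hg, map_mul, map_mul, map_inv]
      refine ⟨?_, fun h => hd2 (conj_eq_one_iff.1 h), ?_⟩
      · rw [show e g * e F.zX * (e g)⁻¹ * (e g * e F.zX * (e g)⁻¹) =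
          e g * (e F.zX * e F.zX) * (e g)⁻¹ by group, hd1]; group
      · rw [map_mul, map_mul, map_inv, hd3, mul_one, mul_inv_cancel]
    · obtain ⟨g, hg⟩ := class_five _ _ hd1 hd2 hd3 h1 h2 h3
      refine isConj_iff.2 ⟨e.symm g, e.injective ?_⟩
      rw [map_mul, map_mul, map_inv, e.apply_symm_apply, hg, mul_inv_cancel_right]
  rw [← hQ]
  have hnzt : ¬ IsConj z (F.f 3) := F.not_conj_t_z hG
  have hodd : ∀ w : F.Ct, F.f 3 ∈ Subgroup.zpowers (w : G) →
      Odd (orderOf (F.π w)) ∧ (w : G) ^ orderOf (F.π w) = F.f 3 := by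
    intro w hm
    obtain ⟨n, hn⟩ := hm
    have hn' : (w : G) ^ n = F.f 3 := hn
    set k := orderOf (F.π w) with hk
    have hwk : F.π 1 = F.π (w ^ k) := by rw [map_one, map_pow, pow_orderOf_eq_one]
    have hwn : F.π w ^ n = 1 := by
      rw [← map_zpow, ← map_one F.π, F.π_eq_iff]
      right
      rw [Subgroup.coe_zpow, hn', invol_mul_self F.orderOf_t]
      rfl
    obtain ⟨m, rfl⟩ := orderOf_dvd_iff_zpow_eq_one.2 hwn
    rcases F.π_eq_iff.1 hwk with h | h
    · exfalso
      rw [Subgroup.coe_pow, Subgroup.coe_one] at h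
      rw [zpow_mul, zpow_natCast, h, one_zpow] at hn'
      exact F.t_ne.1 hn'.symm
    · rw [Subgroup.coe_pow, Subgroup.coe_one, one_mul] at h
      refine ⟨?_, h⟩
      by_contra hev
      rw [Nat.not_odd_iff_even] at hev
      obtain ⟨i, hi⟩ := hev
      set y : F.Ct := w ^ i with hy
      have hy2 : (y : G) * y = F.f 3 := by
        rw [hy, Subgroup.coe_pow, ← pow_add, ← hi]; exact h
      obtain ⟨c, hc, hcz⟩ := (F.sylow_Ct hG).2 (Subgroup.zpowers (y : G))
        (by rw [Subgroup.zpowers_le]; exact y.2) (by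
          haveI : Fact (Nat.Prime 2) := ⟨Nat.prime_two⟩
          have h4 : (y : G) ^ 2 ^ 2 = 1 := by
            rw [show (y : G) ^ 2 ^ 2 = ((y : G) * y) * ((y : G) * y) by
              simp only [show (2 : ℕ) ^ 2 = 4 from rfl, pow_succ, pow_zero, one_mul, mul_assoc], hy2]
            exact invol_mul_self F.orderOf_t
          obtain ⟨a, -, ha⟩ := (Nat.dvd_prime_pow Nat.prime_two).1 (orderOf_dvd_of_pow_eq_one h4)
          exact IsPGroup.of_card (n := a) (by rw [Nat.card_zpowers, ha]))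
      obtain ⟨p, hp, hpe⟩ := F.exists_R (mul_mem (mul_mem hc y.2) (inv_mem hc))
        (hcz _ (Subgroup.mem_zpowers _))
      have hpp : F.f p * F.f p = F.f 3 := by
        rw [hpe, show c * (y : G) * c⁻¹ * (c * y * c⁻¹) = c * (y * y) * c⁻¹ by group, hy2,
          (F.mem_Ct.1 hc).eq, mul_inv_cancel_right]
      rw [F.f_mul, F.f_inj.eq_iff] at hpp
      have := (F.R_cases hp).2.2.1
      rw [show T p p = 3 from congrArg Fin.val hpp] at this
      omega
  let k : Pairs z (F.f 3) (F.f 3) → Q := fun p =>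
    ⟨(F.π ⟨p.1.1, F.mem_Ct.2 (commute_of_mem_zpowers (orderOf_of_isConj F.orderOf_z p.2.1)
        (orderOf_of_isConj F.orderOf_t p.2.2.1) F.orderOf_t p.2.2.2).1⟩,
      F.π ⟨p.1.2, F.mem_Ct.2 (commute_of_mem_zpowers (orderOf_of_isConj F.orderOf_z p.2.1)
        (orderOf_of_isConj F.orderOf_t p.2.2.1) F.orderOf_t p.2.2.2).2⟩),
      hzconj _ p.2.1, by
        rw [← map_mul, ← map_one F.π]
        exact congrArg F.π (Subtype.ext (invol_mul_self (orderOf_of_isConj F.orderOf_t p.2.2.1))), by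
        rw [← map_mul]; exact (hodd _ p.2.2.2).1⟩
  refine Nat.card_congr (Equiv.ofBijective k ⟨?_, ?_⟩)
  · rintro ⟨⟨a, b⟩, ha, hb, hab⟩ ⟨⟨a', b'⟩, ha', hb', hab'⟩ he
    have he' := congrArg Subtype.val he
    simp only [k, Prod.mk.injEq] at he'
    obtain ⟨e1, e2⟩ := he'
    have hma := (commute_of_mem_zpowers (orderOf_of_isConj F.orderOf_z ha)
      (orderOf_of_isConj F.orderOf_t hb) F.orderOf_t hab)
    obtain rfl : a' = a := (F.π_eq_iff.1 e1).resolve_right fun h => by
      refine F.not_conj_mul hG ha (F.mem_Ct.2 hma.1) ?_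
      rw [← hma.1.eq]; exact h ▸ ha'
    rcases F.π_eq_iff.1 e2 with h | h
    · simp only at h; subst h; rfl
    · exfalso
      simp only at h
      set w : F.Ct := ⟨a', F.mem_Ct.2 hma.1⟩ * ⟨b, F.mem_Ct.2 hma.2⟩ with hw
      set w' : F.Ct := w * F.tC with hw'
      have hwv : (w : G) = a' * b := rfl
      have hwv' : (w' : G) = a' * b' := by
        show a' * b * F.f 3 = a' * b'
        rw [h, mul_assoc]
      obtain ⟨o1, p1⟩ := hodd w (hwv.symm ▸ hab)
      obtain ⟨-, p2⟩ := hodd w' (hwv'.symm ▸ hab')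
      have hππ : F.π w' = F.π w := by
        rw [F.π_eq_iff]; right
        show (w : G) = (w : G) * F.f 3 * F.f 3
        rw [mul_assoc, invol_mul_self F.orderOf_t, mul_one]
      rw [hππ] at p2
      have hct : Commute (w : G) (F.f 3) := F.mem_Ct.1 w.2
      obtain ⟨i, hi⟩ := o1
      have hti : F.f 3 ^ orderOf (F.π w) = F.f 3 := by
        rw [hi, pow_succ, pow_mul, pow_two, invol_mul_self F.orderOf_t, one_pow, one_mul]
      rw [show (w' : G) = (w : G) * F.f 3 from rfl, hct.mul_pow, p1, hti,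
        invol_mul_self F.orderOf_t] at p2
      exact F.t_ne.1 p2.symm
  · rintro ⟨⟨U, V⟩, hU, hV, hUV⟩
    obtain ⟨C, hC⟩ := isConj_iff.1 hU
    obtain ⟨c, rfl⟩ := F.π_surjective C
    set a : F.Ct := c * c₀ * c⁻¹ with ha
    have haU : F.π a = U := by rw [ha, map_mul, map_mul, map_inv]; exact hC
    have haz : IsConj z (a : G) := isConj_iff.2 ⟨c, rfl⟩
    simp only at hV hUV
    have hUo : orderOf U = 2 := by
      have hC' : F.π c * F.zX * (F.π c)⁻¹ = U := hC
      rw [← hC', orderOf_conj_eq, F.orderOf_zX]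
    have hV1 : V ≠ 1 := by
      intro h
      rw [h, mul_one, hUo] at hUV
      exact absurd hUV (by decide)
    obtain ⟨Y, hY⟩ := isConj_iff.1 (Classical.byContradiction (p := IsConj U V) fun hnc =>
      Nat.not_odd_iff_even.2 (even_of_not_isConj hUo (invol_iff.2 ⟨hV, hV1⟩) hnc) hUV)
    obtain ⟨y, rfl⟩ := F.π_surjective Y
    set v : F.Ct := y * (a * F.tC) * y⁻¹ with hv
    have hat : IsConj (F.f 3) ((a : G) * F.f 3) := by
      have h1 : IsConj (F.f 3) (z * F.f 3) := by
        have : z * F.f 3 = F.f 43 := by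
          refine Eq.trans ?_ (F.mul' (i := 1) (j := 3) (k := 43) (by decide +kernel))
          exact congrArg (· * F.f 3) F.f_one.symm
        rw [this]; exact F.conj_B F.isB_43
      refine h1.trans (isConj_iff.2 ⟨c, ?_⟩)
      show (c : G) * (z * F.f 3) * (c : G)⁻¹ = (c : G) * z * (c : G)⁻¹ * F.f 3
      rw [show (c : G) * z * (c : G)⁻¹ * F.f 3 = (c : G) * z * ((c : G)⁻¹ * F.f 3) by group,
        ← ((F.mem_Ct.1 c.2).symm.inv_right).eq]
      group
    have hvt : IsConj (F.f 3) (v : G) := hat.trans (isConj_iff.2 ⟨y, rfl⟩)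
    have hvV : F.π v = V := by
      rw [hv, map_mul, map_mul, map_mul, map_inv, haU, ← hY,
        show F.π F.tC = 1 from (QuotientGroup.eq_one_iff _).2 (Subgroup.mem_zpowers _), mul_one]
    set w : F.Ct := a * v with hw
    have hwo : Odd (orderOf (F.π w)) := by rw [hw, map_mul, haU, hvV]; exact hUV
    have hwk : F.π 1 = F.π (w ^ orderOf (F.π w)) := by
      rw [map_one, map_pow, pow_orderOf_eq_one]
    have hmem : F.f 3 ∈ Subgroup.zpowers ((a : G) * v) := by
      rcases F.π_eq_iff.1 hwk with h | h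
      · exfalso
        rw [Subgroup.coe_pow, Subgroup.coe_one] at h
        have ho : Odd (orderOf ((a : G) * v)) := hwo.of_dvd_nat (orderOf_dvd_of_pow_eq_one h)
        refine hnzt ((haz.trans (Classical.byContradiction (p := IsConj (a : G) (v : G)) fun hnc =>
          Nat.not_odd_iff_even.2 (even_of_not_isConj (orderOf_of_isConj F.orderOf_z haz)
            (orderOf_of_isConj F.orderOf_t hvt) hnc) ho)).trans hvt.symm)
      · rw [Subgroup.coe_pow, Subgroup.coe_one, one_mul] at h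
        exact h ▸ Subgroup.npow_mem_zpowers _ _
    exact ⟨⟨((a : G), (v : G)), haz, hvt, hmem⟩, Subtype.ext (Prod.ext haU hvV)⟩

end Tab

end Cfsg.Agent.Lib.M12Cent22
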