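import Cfsg.Agent.Lib.M12Cent22.Local
import Cfsg.Agent.Lib.Fusion.Thompson
import Cfsg.Agent.Lib.Inv59.EightAuto

/-!
# Fusion of involutions

Owner: helper22.
-/

set_option autoImplicit false
set_option linter.style.haveILetI false
set_option linter.unusedSectionVars false
set_option linter.unusedSimpArgs false

namespace Cfsg.Agent.Lib.M12Cent22

open Cfsg.Agent.Lib.Involutions.Basic

variable {G : Type*} [Group G] {z : G}

/-- A non-abelian simple group has no subgroup of index two. -/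
theorem no_index_two [Finite G] [IsSimpleGroup G] (hG : ¬ IsMulCommutative G) (N : Subgroup G) :
    N.index ≠ 2 := by
  intro h
  haveI := Subgroup.normal_of_index_eq_two h
  rcases IsSimpleGroup.eq_bot_or_eq_top_of_normal N inferInstance with e | e
  · rw [e, Subgroup.index_bot] at h
    haveI : Fact (Nat.Prime 2) := ⟨Nat.prime_two⟩
    haveI := isCyclic_of_prime_card h
    exact hG ⟨⟨fun a b => by
      letI := IsCyclic.commGroup (α := G)
      exact mul_comm a b⟩⟩
  · rw [e, Subgroup.index_top] at h; omega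

namespace Tab

variable (F : Tab z)

include F

theorem S_zero : inS 0 = true := by
  have := chk_S
  simp only [Bool.and_eq_true] at this
  exact this.1.1.1

theorem S_mul (i j : Fin 192) (hi : inS i = true) (hj : inS j = true) : inS (T i j) = true := by
  have h := chk_S
  simp only [Bool.and_eq_true, allN_iff] at h
  have h' := h.1.2 i i.2
  simp only [Bool.or_eq_true, Bool.not_eq_true', hi, Bool.true_eq_false, false_or,
    Bool.and_eq_true, allN_iff] at h'
  simpa [hj] using h'.2 j j.2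

/-- A Sylow 2-subgroup inside the centralizer of `z`. -/
theorem exists_sylow [Finite G] : ∃ P : Sylow 2 G,
    (P : Subgroup G) = F.sub inS F.S_zero F.S_mul ∧ z ∈ P := by
  haveI : Fact (Nat.Prime 2) := ⟨Nat.prime_two⟩
  set S := F.sub inS F.S_zero F.S_mul with hS
  have hchk := chk_S
  simp only [Bool.and_eq_true, Nat.beq_eq, allN_iff] at hchk
  obtain ⟨⟨⟨-, h64⟩, hpow⟩, hcen⟩ := hchk
  have hcard : Nat.card S = 64 := (F.card_sub _ _ _).trans h64
  have h2 : IsPGroup 2 S := IsPGroup.of_card (n := 6) (by rw [hcard]; norm_num)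
  obtain ⟨P, hP⟩ := h2.exists_le_sylow
  have hz1 : inS 1 = true := by decide +kernel
  have hzS : z ∈ S := ⟨1, hz1, F.f_one⟩
  haveI : Nontrivial (P : Subgroup G) := (Subgroup.nontrivial_iff_exists_ne_one _).2 ⟨z, hP hzS, F.ne_one⟩
  haveI := P.isPGroup'.center_nontrivial
  obtain ⟨⟨w, hw⟩, hw1⟩ := exists_ne (1 : Subgroup.center (P : Subgroup G))
  rw [Subgroup.mem_center_iff] at hw
  have hwc : ∀ y ∈ P, Commute y (w : G) := fun y hy => congrArg Subtype.val (hw ⟨y, hy⟩)
  obtain ⟨i, hi⟩ := F.exists_idx (x := (w : G)) (hwc z (hP hzS)).symm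
  have hi2 : (i : ℕ) < 2 := by
    have := hcen i i.2
    simp only [Bool.or_eq_true, Nat.blt, Nat.ble_eq, anyN_iff, Bool.and_eq_true,
      Bool.not_eq_true', Bool.eq_false_iff, ne_eq] at this
    rcases this with h | ⟨j, hj, hjS, hne⟩
    · exact h
    · exfalso
      refine hne (F.comm_iff (j := ⟨j, hj⟩).1 ?_)
      rw [hi]
      exact (hwc _ (hP ⟨⟨j, hj⟩, hjS, rfl⟩)).symm
  have hwz : (w : G) = z := by
    rcases (show (i : ℕ) = 0 ∨ (i : ℕ) = 1 by omega) with e | e
    · exfalso
      apply hw1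
      apply Subtype.ext; apply Subtype.ext
      show (w : G) = 1
      rw [← hi, show i = 0 from Fin.ext e, F.f_zero]
    · rw [← hi, show i = 1 from Fin.ext e, F.f_one]
  have hPC : ∀ y ∈ P, Commute y z := fun y hy => hwz ▸ hwc y hy
  refine ⟨P, ?_, hP hzS⟩
  refine (Subgroup.eq_of_le_of_card_ge hP ?_).symm
  obtain ⟨k, hk⟩ := (IsPGroup.iff_card).1 P.isPGroup'
  have hdvd : Nat.card (P : Subgroup G) ∣ 192 := by
    have hC : Nat.card ↥(Subgroup.centralizer ({z} : Set G)) = 192 := by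
      rw [← Nat.card_fin 192]
      refine (Nat.card_congr (Equiv.ofBijective (fun i => ⟨F.f i, F.mem_cent i⟩) ⟨?_, ?_⟩)).symm
      · exact fun a b h => F.f_inj (congrArg Subtype.val h)
      · rintro ⟨x, hx⟩
        obtain ⟨j, rfl⟩ := (F.mem_iff x).1 hx
        exact ⟨j, rfl⟩
    rw [← hC]
    exact Subgroup.card_dvd_of_le fun y hy => mem_cent_iff.2 (hPC y hy)
  rw [hk] at hdvd ⊢
  rw [hcard]
  have : k < 7 := by
    by_contra hc
    have h128 : 2 ^ 7 ∣ 192 := (pow_dvd_pow 2 (by omega : 7 ≤ k)).trans hdvd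
    norm_num at h128
  exact le_trans (Nat.pow_le_pow_right (by norm_num) (by omega : k ≤ 6)) (by norm_num)

/-- Every 2-subgroup is conjugate into the centralizer of `z`. -/
theorem exists_conj_commute [Finite G] {S : Subgroup G} (hS : IsPGroup 2 S) :
    ∃ g : G, ∀ s ∈ S, Commute (g * s * g⁻¹) z := by
  haveI : Fact (Nat.Prime 2) := ⟨Nat.prime_two⟩
  obtain ⟨P, hP, -⟩ := F.exists_sylow
  obtain ⟨P', hP'⟩ := hS.exists_le_sylow
  obtain ⟨g, hg⟩ := MulAction.exists_smul_eq G P' P
  refine ⟨g, fun s hs => ?_⟩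
  have : g * s * g⁻¹ ∈ (P : Subgroup G) := by
    rw [← hg, Sylow.coe_subgroup_smul, Subgroup.mem_smul_pointwise_iff_exists]
    exact ⟨s, hP' hs, by simp [MulAut.conj_apply]⟩
  rw [hP] at this
  obtain ⟨i, -, hi⟩ := this
  rw [← hi]
  exact F.commute_z i

theorem isB_of_nC {i : Fin 192} (h : isA i = true ∨ isB i = true ∨ isD i = true)
    (hn : nC z (F.f i) = 16) : isB i = true := by
  rcases h with h | h | h
  · rw [F.nC_A h] at hn; norm_num at hn
  · exact h
  · rw [F.nC_D h] at hn; norm_num at hn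

theorem isD_of_nC {i : Fin 192} (h : isA i = true ∨ isB i = true ∨ isD i = true)
    (hn : nC z (F.f i) = 8) : isD i = true := by
  rcases h with h | h | h
  · rw [F.nC_A h] at hn; norm_num at hn
  · rw [F.nC_B h] at hn; norm_num at hn
  · exact h

theorem B_comm {y p q : Fin 192} (hy : isB y = true) (hp : com y p = true) (hq : com y q = true) :
    Commute (F.f p) (F.f q) ∨ F.f p * F.f q = z * (F.f q * F.f p) := by
  have := allN_iff.1 chk_B y y.2
  simp only [Bool.or_eq_true, Bool.not_eq_true', hy, Bool.true_eq_false, false_or,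
    Bool.and_eq_true, allN_iff] at this
  have h' := this.1 p p.2
  simp only [Bool.or_eq_true, Bool.not_eq_true', hp, Bool.true_eq_false, false_or, allN_iff] at h'
  have h'' := h' q q.2
  simp only [Bool.or_eq_true, Bool.not_eq_true', hq, Bool.true_eq_false, false_or, Nat.beq_eq] at h''
  rcases h'' with h'' | h''
  · exact Or.inl (F.comm_iff.2 h'')
  · refine Or.inr ((F.f_mul p q).trans ?_)
    rw [F.f_mul q p]
    refine Eq.trans ?_ (congrArg (· * F.f (tm q p)) F.f_one)
    show _ = F.f 1 * F.f (tm q p)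
    rw [F.f_mul]
    exact congrArg F.f (Fin.ext h'')

/-- An element of type `B` is not conjugate to `z`. -/
theorem not_conj_B {i : Fin 192} (hi : isB i = true) : ¬ IsConj z (F.f i) := by
  intro hc
  obtain ⟨g, hg⟩ := isConj_iff.1 hc
  obtain ⟨F'⟩ : Nonempty (Tab (F.f i)) := ⟨hg ▸ F.conj g⟩
  obtain ⟨-, -, hne⟩ := F.ne_of_type (Or.inr (Or.inl hi))
  obtain ⟨j, hj, htype⟩ := F'.invol_cases (x := z) (F.commute_z i).symm F.mul_self F.ne_one (Ne.symm hne)
  have hjB : isB j = true := F'.isB_of_nC htype (by rw [hj, nC_comm]; exact F.nC_B hi)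
  have := allN_iff.1 chk_B i i.2
  simp only [Bool.or_eq_true, Bool.not_eq_true', hi, Bool.true_eq_false, false_or,
    Bool.and_eq_true, anyN_iff, Bool.eq_false_iff, ne_eq, not_true_eq_false] at this
  obtain ⟨p, hp, hyp, q, hq, hyq, hpq⟩ := this.2
  have hnc : ¬ Commute (F.f ⟨p, hp⟩) (F.f ⟨q, hq⟩) := fun h => hpq (F.comm_iff.1 h)
  have h1 := (F.B_comm (p := ⟨p, hp⟩) (q := ⟨q, hq⟩) hi hyp hyq).resolve_left hnc
  obtain ⟨p', hp'⟩ := F'.exists_idx (F.comm_iff (i := ⟨p, hp⟩) (j := i) |>.2 (com_symm hyp))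
  obtain ⟨q', hq'⟩ := F'.exists_idx (F.comm_iff (i := ⟨q, hq⟩) (j := i) |>.2 (com_symm hyq))
  have hyp' : com j p' = true := F'.comm_iff.1 (by rw [hj, hp']; exact (F.commute_z _).symm)
  have hyq' : com j q' = true := F'.comm_iff.1 (by rw [hj, hq']; exact (F.commute_z _).symm)
  have h2 := F'.B_comm hjB hyp' hyq'
  rw [hp', hq'] at h2
  have h2' := h2.resolve_left hnc
  exact hne (mul_right_cancel (h2'.symm.trans h1))

theorem D_cases {y p : Fin 192} (hy : isD y = true) (hp : com y p = true) :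
    (p : ℕ) < 2 ∨ isD p = true ∨ (isA p = true ∧ ∀ q : Fin 192, com y q = true → isA q = true →
      q ≠ p → F.f p * F.f q = z) := by
  have := allN_iff.1 chk_D y y.2
  simp only [Bool.or_eq_true, Bool.not_eq_true', hy, Bool.true_eq_false, false_or,
    Bool.and_eq_true, allN_iff] at this
  have h' := this.1 p p.2
  simp only [Bool.or_eq_true, Bool.not_eq_true', hp, Bool.true_eq_false, false_or, Nat.blt,
    Nat.ble_eq, Bool.and_eq_true, allN_iff, Bool.eq_false_iff, ne_eq, Nat.beq_eq, not_true_eq_false] at h'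
  rcases h' with (h' | h') | h'
  · exact Or.inl h'
  · exact Or.inr (Or.inl h')
  · refine Or.inr (Or.inr ⟨h'.1, fun q hq hqA hne => ?_⟩)
    rcases h'.2 q q.2 with (h | h) | h
    · exact absurd ⟨hq, hqA⟩ h
    · exact absurd (Fin.ext h) hne
    · rw [F.mul' (k := 1) h, F.f_one]

/-- The elements of type `A` are conjugate to `z`. -/
theorem conj_z_A [Finite G] [IsSimpleGroup G] (hG : ¬ IsMulCommutative G) {i : Fin 192}
    (hi : isA i = true) : IsConj z (F.f i) := by
  suffices h : IsConj z (F.f 110) from h.trans (F.conj_A hi)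
  by_contra hA
  obtain ⟨P, hP, hzP⟩ := F.exists_sylow
  obtain ⟨g, hgP, hgne⟩ :=
    Cfsg.Agent.Lib.Inv59.EightAuto.no_isolated hG P F.orderOf_z hzP
  have hgP' : g * z * g⁻¹ ∈ (P : Subgroup G) := hgP
  rw [hP] at hgP'
  obtain ⟨y, -, hy⟩ := hgP'
  have hconj : IsConj z (F.f y) := isConj_iff.2 ⟨g, hy.symm⟩
  have hy2 : F.f y * F.f y = 1 := by
    rw [hy]; exact invol_mul_self ((orderOf_conj_eq g z).trans F.orderOf_z)
  have hy1 : F.f y ≠ 1 := by
    rw [hy]; exact invol_ne_one ((orderOf_conj_eq g z).trans F.orderOf_z)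
  obtain ⟨y', hy', htype⟩ := F.invol_cases (F.commute_z y) hy2 hy1 (hy.trans_ne hgne)
  obtain rfl := F.f_inj hy'
  rcases htype with h | h | h
  · exact hA (hconj.trans (F.conj_A h).symm)
  · exact F.not_conj_B h hconj
  obtain ⟨F'⟩ : Nonempty (Tab (F.f y')) := ⟨hy.symm ▸ F.conj g⟩
  obtain ⟨j, hj, hjt⟩ := F'.invol_cases (x := z) (F.commute_z y').symm F.mul_self F.ne_one
    (fun e => hgne (hy ▸ e.symm))
  have hjD : isD j = true := F'.isD_of_nC hjt (by rw [hj, nC_comm]; exact F.nC_D h)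
  have := allN_iff.1 chk_D y' y'.2
  simp only [Bool.or_eq_true, Bool.not_eq_true', h, Bool.true_eq_false, false_or,
    Bool.and_eq_true, anyN_iff] at this
  obtain ⟨p, hp, ⟨⟨hyp, hpA⟩, hyq⟩, hqA⟩ := this.2
  set q : Fin 192 := tm 1 ⟨p, hp⟩ with hq
  have hzp : z * F.f ⟨p, hp⟩ = F.f q := by
    refine Eq.trans ?_ (F.f_mul 1 ⟨p, hp⟩)
    exact congrArg (· * F.f ⟨p, hp⟩) F.f_one.symm
  have hne : q ≠ ⟨p, hp⟩ := fun e => F.ne_one (mul_eq_right.1 (hzp.trans (congrArg F.f e)))
  have hprod : F.f ⟨p, hp⟩ * F.f q = z := by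
    rcases F.D_cases (p := ⟨p, hp⟩) h hyp with h' | h' | h'
    · exfalso
      obtain ⟨-, h1, h2⟩ := F.ne_of_type (i := ⟨p, hp⟩) (Or.inl hpA)
      rcases (show p = 0 ∨ p = 1 by simp at h'; omega) with rfl | rfl
      · exact h1 F.f_zero
      · exact h2 F.f_one
    · exact absurd (F.nC_A (i := ⟨p, hp⟩) hpA) (by rw [F.nC_D h']; norm_num)
    · exact h'.2 q hyq hqA hne
  have key : ∀ k : Fin 192, isA k = true → com y' k = true →
      ∃ k' : Fin 192, F'.f k' = F.f k ∧ com j k' = true ∧ isA k' = true := by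
    intro k hkA hk
    obtain ⟨k', hk'⟩ := F'.exists_idx (F.comm_iff (i := k) (j := y') |>.2 (com_symm hk))
    have hjk : com j k' = true := F'.comm_iff.1 (by rw [hj, hk']; exact (F.commute_z _).symm)
    refine ⟨k', hk', hjk, ?_⟩
    have hnz : ¬ IsConj z (F.f k) := fun e => hA (e.trans (F.conj_A hkA).symm)
    rcases F'.D_cases hjD hjk with h' | h' | h'
    · exfalso
      rcases (show (k' : ℕ) = 0 ∨ (k' : ℕ) = 1 by omega) with e | e
      · exact (F.ne_of_type (Or.inl hkA)).2.1
          (by rw [← hk', show k' = 0 from Fin.ext e, F'.f_zero])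
      · exact hnz (by rw [← hk', show k' = 1 from Fin.ext e, F'.f_one]; exact hconj)
    · exfalso
      refine hnz ?_
      rw [← hk']
      refine IsConj.trans ?_ (F'.conj_D h')
      exact ((F'.conj_D hjD).trans (show IsConj (F'.f j) z from isConj_iff.2 ⟨1, by simp [hj]⟩)).symm
    · exact h'.1
  obtain ⟨p', hp', hjp, hp'A⟩ := key ⟨p, hp⟩ hpA hyp
  obtain ⟨q', hq', hjq, hq'A⟩ := key q hqA hyq
  have hne' : q' ≠ p' := fun e => hne (F.f_inj (by rw [← hq', e, hp']))
  rcases F'.D_cases hjD hjp with h' | h' | h'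
  · exact absurd (F'.nC_A hp'A) (by
      intro e
      rcases (show (p' : ℕ) = 0 ∨ (p' : ℕ) = 1 by omega) with e' | e'
      · exact (F'.ne_of_type (Or.inl hp'A)).2.1 (by rw [show p' = 0 from Fin.ext e', F'.f_zero])
      · exact (F'.ne_of_type (Or.inl hp'A)).2.2 (by rw [show p' = 1 from Fin.ext e', F'.f_one]))
  · exact absurd (F'.nC_A hp'A) (by rw [F'.nC_D h']; norm_num)
  · have h2 := h'.2 q' hjq hq'A hne'
    rw [hp', hq', hprod] at h2
    exact hgne (hy ▸ h2.symm)

theorem Q_zero : inQ 0 = true := by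
  have := chk_Q
  simp only [Bool.and_eq_true] at this
  exact this.1.1

theorem Q_mul (i j : Fin 192) (hi : inQ i = true) (hj : inQ j = true) : inQ (T i j) = true := by
  have h := chk_Q
  simp only [Bool.and_eq_true, allN_iff] at h
  have h' := h.2 i i.2
  simp only [Bool.or_eq_true, Bool.not_eq_true', hi, Bool.true_eq_false, false_or,
    Bool.and_eq_true, allN_iff] at h'
  simpa [hj] using h'.2 j j.2

/-- Every involution is conjugate to `z`, to an element of type `B`, or to one of type `D`. -/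
theorem invol_conj [Finite G] [IsSimpleGroup G] (hG : ¬ IsMulCommutative G) {x : G}
    (hx : orderOf x = 2) : IsConj z x ∨ IsConj (F.f 3) x ∨ IsConj (F.f 15) x := by
  haveI : Fact (Nat.Prime 2) := ⟨Nat.prime_two⟩
  obtain ⟨g, hg⟩ := F.exists_conj_commute (S := Subgroup.zpowers x)
    (IsPGroup.of_card (n := 1) (by rw [Nat.card_zpowers, hx, pow_one]))
  have hc := hg x (Subgroup.mem_zpowers x)
  have hxg : IsConj x (g * x * g⁻¹) := isConj_iff.2 ⟨g, rfl⟩
  have ho : orderOf (g * x * g⁻¹) = 2 := (orderOf_conj_eq g x).trans hx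
  by_cases hz : g * x * g⁻¹ = z
  · exact Or.inl (hz ▸ hxg).symm
  obtain ⟨i, hi, htype⟩ := F.invol_cases hc (invol_mul_self ho) (invol_ne_one ho) hz
  rw [← hi] at hxg
  rcases htype with h | h | h
  · exact Or.inl ((F.conj_z_A hG h).trans hxg.symm)
  · exact Or.inr (Or.inl ((F.conj_B h).trans hxg.symm))
  · exact Or.inr (Or.inr ((F.conj_D h).trans hxg.symm))

/-- If the elements of type `D` are not conjugate to `z`, they are conjugate to those of type `B`. -/
theorem conj_D_B [Finite G] [IsSimpleGroup G] (hG : ¬ IsMulCommutative G)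
    (hd : ¬ IsConj z (F.f 15)) : IsConj (F.f 3) (F.f 15) := by
  haveI : Fact (Nat.Prime 2) := ⟨Nat.prime_two⟩
  obtain ⟨P, hP, -⟩ := F.exists_sylow
  set Q := F.sub inQ F.Q_zero F.Q_mul with hQ
  have hchk := chk_Q
  simp only [Bool.and_eq_true, Nat.beq_eq, allN_iff] at hchk
  have hle : Q ≤ (P : Subgroup G) := by
    rw [hP]
    rintro x ⟨i, hi, rfl⟩
    have := hchk.2 i i.2
    simp only [Bool.or_eq_true, Bool.not_eq_true', hi, Bool.true_eq_false, false_or,
      Bool.and_eq_true] at this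
    exact ⟨i, this.1.1, rfl⟩
  have hrel : Q.relIndex P = 2 := by
    have h1 := Subgroup.card_mul_index (Q.subgroupOf (P : Subgroup G))
    have hS := chk_S
    simp only [Bool.and_eq_true, Nat.beq_eq] at hS
    rw [Nat.card_congr (Subgroup.subgroupOfEquivOfLe hle).toEquiv, F.card_sub, hchk.1.2,
      show Nat.card (P : Subgroup G) = 64 by rw [hP, F.card_sub, hS.1.1.2]] at h1
    change 32 * Q.relIndex P = 64 at h1
    omega
  have hd15 : isD (15 : Fin 192) = true := by decide +kernel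
  have hdo := F.orderOf_type (Or.inr (Or.inr hd15))
  obtain ⟨g, i, hi, hgi⟩ := Cfsg.Agent.Lib.Fusion.Thompson.exists_conj_mem_maximal P Q hle hrel
    (no_index_two hG) (F.f 15) hdo
  have hxg : IsConj (F.f 15) (F.f i) := isConj_iff.2 ⟨g, hgi.symm⟩
  have ho : orderOf (F.f i) = 2 := by rw [hgi, orderOf_conj_eq, hdo]
  by_cases hz : F.f i = z
  · exact absurd (hz ▸ hxg).symm hd
  obtain ⟨i', hi', htype⟩ := F.invol_cases (F.commute_z i) (invol_mul_self ho) (invol_ne_one ho) hz
  obtain rfl := F.f_inj hi'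
  rcases htype with h | h | h
  · exact absurd ((F.conj_z_A hG h).trans hxg.symm) hd
  · exact (F.conj_B h).trans hxg.symm
  · have := hchk.2 i' i'.2
    simp [hi, h] at this

end Tab

end Cfsg.Agent.Lib.M12Cent22
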