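import Cfsg.Agent.Lib.M12Cent22.Tab
import Cfsg.Agent.Lib.M12Cent22.Facts

/-!
# Translating the finite facts into the group

Owner: helper22.
-/

set_option autoImplicit false
set_option linter.style.haveILetI false

namespace Cfsg.Agent.Lib.M12Cent22

open Cfsg.Agent.Lib.Involutions.Basic

variable {G : Type*} [Group G]

/-- The order of the common centralizer of two elements. -/
noncomputable def nC (x y : G) : ℕ :=
  Nat.card ↥(Subgroup.centralizer ({x} : Set G) ⊓ Subgroup.centralizer ({y} : Set G))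

theorem nC_comm (x y : G) : nC x y = nC y x := by rw [nC, nC, inf_comm]

theorem mem_cent_iff {x y : G} :
    y ∈ Subgroup.centralizer ({x} : Set G) ↔ Commute y x :=
  Subgroup.mem_centralizer_singleton_iff

theorem commute_conj_iff (g x y : G) :
    Commute (g * x * g⁻¹) (g * y * g⁻¹) ↔ Commute x y :=
  Commute.conj_iff (G := G) g

theorem nC_conj (g x y : G) : nC (g * x * g⁻¹) (g * y * g⁻¹) = nC x y := by
  refine (Nat.card_congr ?_).symm
  refine (MulAut.conj g).toEquiv.subtypeEquiv fun w => ?_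
  show w ∈ _ ↔ g * w * g⁻¹ ∈ _
  simp only [Subgroup.mem_inf, mem_cent_iff, commute_conj_iff]

theorem mem_iff {l : List ℕ} {i : ℕ} : mem l i = true ↔ i ∈ l := by
  simp [mem]

theorem com_iff {i j : ℕ} : com i j = true ↔ T i j = T j i := by simp [com]

theorem com_symm {i j : ℕ} (h : com i j = true) : com j i = true := by
  rw [com_iff] at h ⊢; exact h.symm

namespace Tab

variable {z : G} (F : Tab z)

include F

theorem f_zero : F.f 0 = 1 := by
  have h := F.f_mul 0 0
  rw [hr] at h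
  exact mul_eq_left.1 h

theorem mul' {i j k : Fin 192} (h : T i j = k) : F.f i * F.f j = F.f k := by
  rw [F.f_mul]; exact congrArg F.f (Fin.ext h)

theorem eq_iff {i j k l : Fin 192} : F.f i * F.f j = F.f k * F.f l ↔ T i j = T k l := by
  rw [F.f_mul, F.f_mul, F.f_inj.eq_iff, Fin.ext_iff]
  rfl

theorem comm_iff {i j : Fin 192} : Commute (F.f i) (F.f j) ↔ com i j = true := by
  rw [com_iff]; exact F.eq_iff

theorem mem_cent (i : Fin 192) : F.f i ∈ Subgroup.centralizer ({z} : Set G) :=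
  (F.mem_iff _).2 ⟨i, rfl⟩

theorem commute_z (i : Fin 192) : Commute (F.f i) z := mem_cent_iff.1 (F.mem_cent i)

theorem exists_idx {x : G} (h : Commute x z) : ∃ i, F.f i = x := (F.mem_iff x).1 (mem_cent_iff.2 h)

theorem ne_one : z ≠ 1 := fun h =>
  absurd (F.f_inj (F.f_one.trans (h.trans F.f_zero.symm))) (by decide)

theorem mul_self : z * z = 1 :=
  (congrArg₂ (· * ·) F.f_one F.f_one).symm.trans
    ((F.mul' (k := 0) (by decide +kernel)).trans F.f_zero)

theorem orderOf_z : orderOf z = 2 := invol_iff.2 ⟨F.mul_self, F.ne_one⟩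

/-- The table of a conjugate. -/
def conj (g : G) : Tab (g * z * g⁻¹) where
  f := fun i => g * F.f i * g⁻¹
  f_mul := fun i j => by rw [← F.f_mul]; group
  f_inj := fun i j h => F.f_inj (mul_left_cancel (mul_right_cancel h))
  mem_iff := fun x => by
    rw [mem_cent_iff]
    constructor
    · intro h
      have h' : Commute (g⁻¹ * x * g) z := by
        rw [← commute_conj_iff g]
        simpa [mul_assoc] using h
      obtain ⟨i, hi⟩ := F.exists_idx h'
      exact ⟨i, by rw [hi]; group⟩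
    · rintro ⟨i, rfl⟩
      rw [commute_conj_iff]
      exact F.commute_z i
  f_one := by rw [F.f_one]

theorem card_pred (p : G → Prop) (q : ℕ → Bool)
    (hp : ∀ i : Fin 192, p (F.f i) ↔ q i = true) (hc : ∀ x, p x → Commute x z) :
    Nat.card {x : G // p x} = cnt 192 q := by
  rw [← card_cnt]
  symm
  refine Nat.card_congr (Equiv.ofBijective (fun i => ⟨F.f i.1, (hp i.1).2 i.2⟩) ⟨?_, ?_⟩)
  · intro i j h
    exact Subtype.ext (F.f_inj (congrArg Subtype.val h))
  · rintro ⟨x, hx⟩
    obtain ⟨i, rfl⟩ := F.exists_idx (hc x hx)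
    exact ⟨⟨i, (hp i).1 hx⟩, rfl⟩

theorem nC_f (i : Fin 192) : nC z (F.f i) = cnt 192 (com i) := by
  refine F.card_pred _ _ (fun j => ?_) fun x hx => mem_cent_iff.1 (Subgroup.mem_inf.1 hx).1
  simp only [Subgroup.mem_inf, mem_cent_iff]
  constructor
  · rintro ⟨-, h⟩; exact com_symm (F.comm_iff.1 h)
  · intro h; exact ⟨F.commute_z j, F.comm_iff.2 (com_symm h)⟩

theorem nC_A {i : Fin 192} (h : isA i = true) : nC z (F.f i) = 32 := by
  have := allN_iff.1 chk_cn i i.2
  simp only [Bool.and_eq_true, Bool.or_eq_true, Bool.not_eq_true', h, Bool.true_eq_false,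
    false_or, Nat.beq_eq] at this
  rw [F.nC_f]; exact this.1.1.2

theorem nC_B {i : Fin 192} (h : isB i = true) : nC z (F.f i) = 16 := by
  have := allN_iff.1 chk_cn i i.2
  simp only [Bool.and_eq_true, Bool.or_eq_true, Bool.not_eq_true', h, Bool.true_eq_false,
    false_or, Nat.beq_eq] at this
  rw [F.nC_f]; exact this.1.2.2

theorem nC_D {i : Fin 192} (h : isD i = true) : nC z (F.f i) = 8 := by
  have := allN_iff.1 chk_cn i i.2
  simp only [Bool.and_eq_true, Bool.or_eq_true, Bool.not_eq_true', h, Bool.true_eq_false,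
    false_or, Nat.beq_eq] at this
  rw [F.nC_f]; exact this.2

theorem ne_of_type {i : Fin 192} (h : isA i = true ∨ isB i = true ∨ isD i = true) :
    F.f i * F.f i = 1 ∧ F.f i ≠ 1 ∧ F.f i ≠ z := by
  have := allN_iff.1 chk_cn i i.2
  have h2 : 1 < (i : ℕ) ∧ T i i = 0 := by
    rcases h with h | h | h
    · simp only [Bool.and_eq_true, Bool.or_eq_true, Bool.not_eq_true', h, Bool.true_eq_false,
        false_or, Nat.blt, Nat.ble_eq, Nat.beq_eq] at this
      exact ⟨this.1.1.1.1, this.1.1.1.2⟩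
    · simp only [Bool.and_eq_true, Bool.or_eq_true, Bool.not_eq_true', h, Bool.true_eq_false,
        false_or, Nat.blt, Nat.ble_eq, Nat.beq_eq] at this
      exact ⟨this.1.2.1.1, this.1.2.1.2⟩
    · simp only [isD, Bool.and_eq_true, Nat.blt, Nat.ble_eq, Nat.beq_eq] at h
      exact ⟨h.1.1.1, h.1.1.2⟩
  refine ⟨?_, ?_, ?_⟩
  · rw [F.mul' (k := 0) h2.2, F.f_zero]
  · rw [← F.f_zero]
    intro e
    have e' := congrArg Fin.val (F.f_inj e)
    have h1 := h2.1
    rw [e'] at h1
    exact absurd h1 (by norm_num)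
  · intro e
    have e' := congrArg Fin.val (F.f_inj (e.trans F.f_one.symm))
    have h1 := h2.1
    rw [e'] at h1
    exact absurd h1 (by norm_num)

theorem orderOf_type {i : Fin 192} (h : isA i = true ∨ isB i = true ∨ isD i = true) :
    orderOf (F.f i) = 2 :=
  invol_iff.2 ⟨(F.ne_of_type h).1, (F.ne_of_type h).2.1⟩

/-- An involution of the centralizer other than `z` has one of the three types. -/
theorem invol_cases {x : G} (hc : Commute x z) (hx : x * x = 1) (h1 : x ≠ 1) (hz : x ≠ z) :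
    ∃ i, F.f i = x ∧ (isA i = true ∨ isB i = true ∨ isD i = true) := by
  obtain ⟨i, rfl⟩ := F.exists_idx hc
  refine ⟨i, rfl, ?_⟩
  rw [F.f_mul, ← F.f_zero, F.f_inj.eq_iff] at hx
  have hT : T i i = 0 := congrArg Fin.val hx
  have := allN_iff.1 chk_invol i i.2
  simp only [Bool.or_eq_true, Bool.not_eq_true', hT, Nat.blt, Nat.ble_eq] at this
  rcases this with (((h | h) | h) | h) | h
  · simp at h
  · exfalso
    rcases (show (i : ℕ) = 0 ∨ (i : ℕ) = 1 by omega) with e | e
    · exact h1 (by rw [show i = 0 from Fin.ext e, F.f_zero])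
    · exact hz (by rw [show i = 1 from Fin.ext e, F.f_one])
  · exact Or.inl h
  · exact Or.inr (Or.inl h)
  · exact Or.inr (Or.inr h)

theorem conj_step {g a i : Fin 192} (h : T g a = T i g) : IsConj (F.f a) (F.f i) :=
  isConj_iff.2 ⟨F.f g, mul_inv_eq_iff_eq_mul.2 (F.eq_iff.2 h)⟩

theorem conj_A {i : Fin 192} (h : isA i = true) : IsConj (F.f 110) (F.f i) := by
  have := allN_iff.1 chk_conj i i.2
  simp only [Bool.and_eq_true, Bool.or_eq_true, Bool.not_eq_true', h, Bool.true_eq_false,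
    false_or, anyN_iff, Nat.beq_eq] at this
  obtain ⟨g, hg, e⟩ := this.1.1
  exact F.conj_step (g := ⟨g, hg⟩) e

theorem conj_B {i : Fin 192} (h : isB i = true) : IsConj (F.f 3) (F.f i) := by
  have := allN_iff.1 chk_conj i i.2
  simp only [Bool.and_eq_true, Bool.or_eq_true, Bool.not_eq_true', h, Bool.true_eq_false,
    false_or, anyN_iff, Nat.beq_eq] at this
  obtain ⟨g, hg, e⟩ := this.1.2
  exact F.conj_step (g := ⟨g, hg⟩) e

theorem conj_D {i : Fin 192} (h : isD i = true) : IsConj (F.f 15) (F.f i) := by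
  have := allN_iff.1 chk_conj i i.2
  simp only [Bool.and_eq_true, Bool.or_eq_true, Bool.not_eq_true', h, Bool.true_eq_false,
    false_or, anyN_iff, Nat.beq_eq] at this
  obtain ⟨g, hg, e⟩ := this.2
  exact F.conj_step (g := ⟨g, hg⟩) e

theorem f_pow (w : Fin 192) : ∀ m : ℕ, ∃ k : Fin 192, (k : ℕ) = powT w m ∧ F.f w ^ m = F.f k
  | 0 => ⟨0, rfl, by rw [pow_zero, F.f_zero]⟩
  | m + 1 => by
    obtain ⟨k, hk, e⟩ := f_pow w m
    refine ⟨tm k w, ?_, by rw [pow_succ, e, F.f_mul]⟩
    show T k w = Cfsg.Agent.Lib.Computation.forceNat (powT w m) fun a => T a w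
    rw [Cfsg.Agent.Lib.Computation.forceNat_eq, ← hk]

theorem pow_24 (w : Fin 192) : F.f w ^ 24 = 1 := by
  obtain ⟨k, hk, e⟩ := F.f_pow w 24
  rw [e, show k = 0 from Fin.ext (hk.trans (by simpa using allN_iff.1 chk_pow w w.2)), F.f_zero]

theorem pw_iff (u v k : Fin 192) :
    F.f k ∈ Subgroup.zpowers (F.f u * F.f v) ↔ pw u v k = true := by
  simp only [pw, Cfsg.Agent.Lib.Computation.forceNat_eq, anyN_iff, Nat.beq_eq]
  rw [F.f_mul]
  constructor
  · intro h
    obtain ⟨m, hm⟩ := Subgroup.mem_zpowers_iff.1 h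
    refine ⟨(m % 24).toNat, by omega, ?_⟩
    obtain ⟨k', hk', e⟩ := F.f_pow (tm u v) (m % 24).toNat
    show powT (tm u v) _ = _
    rw [← hk']
    refine congrArg Fin.val (F.f_inj (e.symm.trans ?_))
    rw [← hm, ← zpow_natCast, Int.toNat_of_nonneg (by omega)]
    conv_rhs => rw [← Int.mul_ediv_add_emod m 24, zpow_add, zpow_mul, zpow_ofNat, F.pow_24,
      one_zpow, one_mul]
  · rintro ⟨m, -, e⟩
    obtain ⟨k', hk', e'⟩ := F.f_pow (tm u v) m
    have : k' = k := Fin.ext (hk'.trans e)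
    rw [← this, ← e']
    exact Subgroup.npow_mem_zpowers _ _

/-- A set of indices closed under multiplication gives a subgroup. -/
def sub (q : ℕ → Bool) (h0 : q 0 = true)
    (hmul : ∀ i j : Fin 192, q i = true → q j = true → q (T i j) = true) : Subgroup G where
  carrier := {x | ∃ i : Fin 192, q i = true ∧ F.f i = x}
  mul_mem' := by
    rintro _ _ ⟨i, hi, rfl⟩ ⟨j, hj, rfl⟩
    exact ⟨tm i j, hmul i j hi hj, (F.f_mul i j).symm⟩
  one_mem' := ⟨0, h0, F.f_zero⟩
  inv_mem' := by
    rintro _ ⟨i, hi, rfl⟩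
    have key : ∀ m, ∃ k : Fin 192, q k = true ∧ F.f i ^ m = F.f k := by
      intro m
      induction m with
      | zero => exact ⟨0, h0, by rw [pow_zero, F.f_zero]⟩
      | succ m ih =>
        obtain ⟨k, hk, e⟩ := ih
        exact ⟨tm k i, hmul k i hk hi, by rw [pow_succ, e, F.f_mul]⟩
    obtain ⟨k, hk, e⟩ := key 23
    refine ⟨k, hk, ?_⟩
    rw [← e, eq_inv_iff_mul_eq_one, ← pow_succ]
    exact F.pow_24 i

theorem mem_sub {q : ℕ → Bool} {h0 hmul} {x : G} :
    x ∈ F.sub q h0 hmul ↔ ∃ i : Fin 192, q i = true ∧ F.f i = x := Iff.rfl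

theorem card_sub (q : ℕ → Bool) (h0) (hmul) : Nat.card (F.sub q h0 hmul) = cnt 192 q := by
  refine F.card_pred _ _ (fun i => ?_) ?_
  · exact ⟨fun ⟨j, hj, e⟩ => F.f_inj e ▸ hj, fun h => ⟨i, h, rfl⟩⟩
  · rintro x ⟨i, -, rfl⟩
    exact F.commute_z i

end Tab

end Cfsg.Agent.Lib.M12Cent22
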