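import Cfsg.Agent.Lib.M12Cent22.CentT
import Cfsg.Agent.Lib.DihedralCentralizer.Classify

/-!
# The quotient of the centralizer of `t` by `⟨t⟩`

Its involution centralizer is dihedral of order 8, it has trivial odd core and a subgroup of index
two, so it is dihedral of order 8, `S₄` or `S₅`.

Owner: helper22.
-/

set_option autoImplicit false
set_option linter.style.haveILetI false
set_option linter.unusedSectionVars false
set_option linter.unusedVariables false

namespace Cfsg.Agent.Lib.M12Cent22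

open Cfsg.Agent.Lib.Involutions.Basic

universe u

/-- An odd order subgroup normalised and fixed point freely acted on by an involution is
inverted by it. -/
theorem inverted_of_fixedPointFree {X : Type*} [Group X] {O : Subgroup X} [O.Normal] [Finite X]
    (hO : Odd (Nat.card O)) {i : X} (hi : i * i = 1) (hfree : ∀ x ∈ O, Commute x i → x = 1) :
    ∀ x ∈ O, i * x * i = x⁻¹ := by
  have hii : i⁻¹ = i := inv_eq_of_mul_eq_one_right hi
  have hmem : ∀ x ∈ O, i * x * i ∈ O := fun x hx => by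
    have := Subgroup.Normal.conj_mem inferInstance x hx i
    rwa [hii] at this
  let f : O → O := fun x => ⟨(x : X)⁻¹ * (i * x * i), mul_mem (inv_mem x.2) (hmem x x.2)⟩
  have hinj : Function.Injective f := by
    intro x y h
    have h' : (x : X)⁻¹ * (i * x * i) = (y : X)⁻¹ * (i * y * i) := congrArg Subtype.val h
    have hc : Commute ((y : X) * (x : X)⁻¹) i := by
      have h1 : (y : X) * (x : X)⁻¹ = i * y * i * (i * x * i)⁻¹ := by
        calc (y : X) * (x : X)⁻¹ = (y : X) * ((x : X)⁻¹ * (i * x * i)) * (i * x * i)⁻¹ := by group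
          _ = (y : X) * ((y : X)⁻¹ * (i * y * i)) * (i * x * i)⁻¹ := by rw [h']
          _ = i * y * i * (i * x * i)⁻¹ := by group
      show (y : X) * (x : X)⁻¹ * i = i * ((y : X) * (x : X)⁻¹)
      conv_lhs => rw [h1, mul_inv_rev, mul_inv_rev, hii]
      rw [show i * ↑y * i * (i * ((↑x : X)⁻¹ * i)) * i = i * ↑y * (i * i) * (↑x : X)⁻¹ * (i * i) by group,
        hi, mul_one, mul_one, mul_assoc]
    have h1 := hfree _ (mul_mem y.2 (inv_mem x.2)) hc
    exact Subtype.ext (mul_inv_eq_one.1 h1).symm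
  intro x hx
  obtain ⟨⟨y, hy⟩, hyx⟩ := (Finite.injective_iff_surjective.1 hinj) ⟨x, hx⟩
  have e : y⁻¹ * (i * y * i) = x := congrArg Subtype.val hyx
  rw [← e, mul_inv_rev, inv_inv, mul_inv_rev, mul_inv_rev, hii]
  calc i * (y⁻¹ * (i * y * i)) * i = i * y⁻¹ * i * y * (i * i) := by group
    _ = i * (y⁻¹ * i) * y := by rw [hi]; group

/-- The indices of an elementary abelian subgroup of order 8 containing `t`. -/
def inM (i : ℕ) : Bool := mem [0, 1, 3, 43, 110, 145, T 3 110, T 3 145] i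

theorem chk_M : (inM 0 && Nat.beq (cnt 192 inM) 8 && allN 192 fun i => !inM i ||
    (com 3 i && allN 192 fun j => !inM j || inM (T i j))) = true := by decide +kernel

namespace Tab

variable {G : Type u} [Group G] {z : G} (F : Tab z)

/-- `t` as an element of its centralizer. -/
def tC : F.Ct := ⟨F.f 3, F.mem_Ct.2 (Commute.refl _)⟩

/-- The subgroup `⟨t⟩` of the centralizer of `t`. -/
def K : Subgroup F.Ct := Subgroup.zpowers F.tC

instance K_normal : F.K.Normal := by
  refine ⟨fun k hk x => ?_⟩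
  obtain ⟨n, rfl⟩ := Subgroup.mem_zpowers_iff.1 hk
  have hc : Commute x F.tC := Subtype.ext (F.mem_Ct.1 x.2)
  rw [(hc.zpow_right n).eq, mul_inv_cancel_right]
  exact Subgroup.zpow_mem_zpowers _ n

theorem mem_K {x : F.Ct} : x ∈ F.K ↔ (x : G) = 1 ∨ (x : G) = F.f 3 := by
  constructor
  · intro h
    obtain ⟨n, rfl⟩ := Subgroup.mem_zpowers_iff.1 h
    have h2 : F.tC ^ (2 : ℤ) = 1 := by
      rw [zpow_two]; exact Subtype.ext (invol_mul_self F.orderOf_t)
    rcases Int.even_or_odd' n with ⟨m, rfl | rfl⟩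
    · left; rw [zpow_mul, h2, one_zpow, Subgroup.coe_one]
    · right; rw [zpow_add, zpow_mul, h2, one_zpow, one_mul, zpow_one]; rfl
  · rintro (h | h)
    · rw [show x = 1 from Subtype.ext h]; exact one_mem _
    · rw [show x = F.tC from Subtype.ext h]; exact Subgroup.mem_zpowers _

/-- The quotient map. -/
def π : F.Ct →* F.Ct ⧸ F.K := QuotientGroup.mk' F.K

theorem π_surjective : Function.Surjective F.π := QuotientGroup.mk'_surjective _

theorem π_eq_iff {x y : F.Ct} : F.π x = F.π y ↔ (y : G) = x ∨ (y : G) = x * F.f 3 := by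
  rw [π, QuotientGroup.mk'_apply, QuotientGroup.mk'_apply, QuotientGroup.eq, F.mem_K,
    Subgroup.coe_mul, Subgroup.coe_inv, inv_mul_eq_one, inv_mul_eq_iff_eq_mul]
  exact or_congr_left eq_comm

theorem card_Ct [Finite G] : Nat.card F.Ct = 2 * Nat.card (F.Ct ⧸ F.K) := by
  rw [Subgroup.card_eq_card_quotient_mul_card_subgroup F.K, mul_comm]
  congr 1
  rw [K, Nat.card_zpowers, ← Subgroup.orderOf_coe]
  exact F.orderOf_t

/-- `z` in the quotient. -/
def zX : F.Ct ⧸ F.K := F.π ⟨z, F.z_mem_Ct⟩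

theorem orderOf_zX : orderOf F.zX = 2 := by
  refine invol_iff.2 ⟨?_, fun h => ?_⟩
  · rw [zX, ← map_mul, ← map_one F.π]
    exact congrArg F.π (Subtype.ext F.mul_self)
  · rw [zX, ← map_one F.π, F.π_eq_iff, Subgroup.coe_one] at h
    rcases h with h | h
    · exact F.ne_one h.symm
    · refine F.t_ne.2 ?_
      calc F.f 3 = z⁻¹ := eq_inv_of_mul_eq_one_right h.symm
        _ = z := inv_eq_of_mul_eq_one_right F.mul_self

variable [Finite G] [IsSimpleGroup G] (hG : ¬ IsMulCommutative G)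

include hG

/-- Centralizers in the quotient come from centralizers in the group. -/
theorem commute_π_iff {x r : F.Ct} (hr : IsConj z (r : G)) :
    Commute (F.π x) (F.π r) ↔ Commute (x : G) r := by
  constructor
  · intro h
    have h1 : F.π r = F.π (x * r * x⁻¹) := by
      rw [map_mul, map_mul, h.eq, map_inv, mul_inv_cancel_right]
    rcases F.π_eq_iff.1 h1 with h2 | h2
    · exact mul_inv_eq_iff_eq_mul.1 h2
    · exfalso
      refine F.not_conj_mul hG hr r.2 ?_
      rw [← (F.mem_Ct.1 r.2).eq, ← h2]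
      exact hr.trans (isConj_iff.2 ⟨x, rfl⟩)
  · intro h
    exact (show Commute x r from Subtype.ext h).map F.π

theorem centralizer_zX : Nonempty (↥(Subgroup.centralizer ({F.zX} : Set (F.Ct ⧸ F.K))) ≃*
    DihedralGroup 4) := by
  classical
  set R : Subgroup F.Ct := (Subgroup.centralizer ({z} : Set G)).subgroupOf F.Ct with hR
  set D := Subgroup.centralizer ({F.zX} : Set (F.Ct ⧸ F.K)) with hD
  have hidx : ∀ x : R, ∃ p : Fin 192, com 3 p = true ∧ F.f p = ((x : F.Ct) : G) := fun x =>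
    F.exists_R x.1.2 (mem_cent_iff.1 x.2)
  choose idx hidx1 hidx2 using hidx
  have hchk : ∀ p q : Fin 192, com 3 p = true → com 3 q = true →
      phiN (T p q) = phiN p * phiN q ∧
        (phiN p = DihedralGroup.r 0 → p = 0 ∨ p = 3) := by
    intro p q hp hq
    have h := chk_phi.1
    rw [allN_iff] at h
    have h' := h p p.2
    simp only [Bool.or_eq_true, Bool.not_eq_true', hp, Bool.true_eq_false, false_or,
      Bool.and_eq_true, allN_iff, decide_eq_true_eq, Nat.beq_eq] at h'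
    refine ⟨?_, fun e => ?_⟩
    · simpa [hq] using h'.1 q q.2
    · rcases h'.2 with (h2 | h2) | h2
      · exact absurd e h2
      · exact Or.inl (Fin.ext h2)
      · exact Or.inr (Fin.ext h2)
  let φ : R →* DihedralGroup 4 := MonoidHom.mk' (fun x => phiN (idx x)) (fun x y => by
    have : idx (x * y) = tm (idx x) (idx y) := F.f_inj (by rw [hidx2, ← F.f_mul, hidx2, hidx2]; rfl)
    show phiN (idx (x * y)) = _
    rw [this]
    exact (hchk _ _ (hidx1 x) (hidx1 y)).1)
  let ψ : R →* D := (F.π.comp R.subtype).codRestrict D fun x => mem_cent_iff.2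
    ((F.commute_π_iff hG (r := ⟨z, F.z_mem_Ct⟩) (IsConj.refl z)).2 (mem_cent_iff.1 x.2))
  have hψ : Function.Surjective ψ := by
    rintro ⟨y, hy⟩
    obtain ⟨x, rfl⟩ := F.π_surjective y
    refine ⟨⟨x, mem_cent_iff.2 ?_⟩, rfl⟩
    exact (F.commute_π_iff hG (r := ⟨z, F.z_mem_Ct⟩) (IsConj.refl z)).1 (mem_cent_iff.1 hy)
  have hφ : Function.Surjective φ := by
    intro d
    have h := chk_phi.2 d
    simp only [anyN_iff, Bool.and_eq_true, decide_eq_true_eq] at h
    obtain ⟨p, hp, hcom, hpd⟩ := h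
    refine ⟨⟨⟨F.f ⟨p, hp⟩, F.f_mem_Ct hcom⟩, F.mem_cent _⟩, ?_⟩
    show phiN (idx _) = d
    rw [show idx _ = (⟨p, hp⟩ : Fin 192) from F.f_inj (hidx2 ⟨⟨F.f ⟨p, hp⟩, F.f_mem_Ct hcom⟩, F.mem_cent _⟩)]
    exact hpd
  have hker : ψ.ker = φ.ker := by
    ext x
    rw [MonoidHom.mem_ker, MonoidHom.mem_ker, Subtype.ext_iff]
    show F.π x.1 = 1 ↔ phiN (idx x) = DihedralGroup.r 0
    rw [← map_one F.π, eq_comm, F.π_eq_iff, Subgroup.coe_one, one_mul, ← hidx2 x, ← F.f_zero,
      F.f_inj.eq_iff, F.f_inj.eq_iff]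
    constructor
    · rintro (e | e) <;> rw [e] <;> rfl
    · exact (hchk _ _ (hidx1 x) (hidx1 x)).2
  exact ⟨(QuotientGroup.quotientKerEquivOfSurjective ψ hψ).symm.trans
    ((QuotientGroup.quotientMulEquivOfEq hker).trans
      (QuotientGroup.quotientKerEquivOfSurjective φ hφ))⟩

theorem oddCore_eq_bot : Cfsg.oddCore (F.Ct ⧸ F.K) = ⊥ := by
  haveI : Fact (Nat.Prime 2) := ⟨Nat.prime_two⟩
  set O := Cfsg.oddCore (F.Ct ⧸ F.K) with hO
  have hodd : Odd (Nat.card O) := Cfsg.Agent.Lib.Cores.oddCore_odd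
  haveI : O.Normal := by rw [hO]; infer_instance
  have key : ∀ r : F.Ct, IsConj z (r : G) → ∀ y ∈ O, Commute y (F.π r) → y = 1 := by
    intro r hr y hy hc
    obtain ⟨x, rfl⟩ := F.π_surjective y
    have hx : Commute (x : G) r := (F.commute_π_iff hG hr).1 hc
    have hxm : (x : G) ∈ Subgroup.centralizer ({(r : G)} : Set G) ⊓ F.Ct :=
      ⟨mem_cent_iff.2 hx, x.2⟩
    have hn : Nat.card ↥(Subgroup.centralizer ({(r : G)} : Set G) ⊓ F.Ct) ∣ 16 := by
      rcases F.nC_t hG hr (F.mem_Ct.1 r.2) with h | ⟨h, -⟩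
      · exact dvd_of_eq h
      · exact (dvd_of_eq h).trans (by norm_num)
    have h16 : orderOf (x : G) ∣ 2 ^ 4 := (Subgroup.orderOf_dvd_natCard _ hxm).trans hn
    have h1 : orderOf (F.π x) ∣ 2 ^ 4 := (orderOf_map_dvd F.π x).trans (Subgroup.orderOf_coe x ▸ h16)
    have h2 : orderOf (F.π x) ∣ Nat.card O := Subgroup.orderOf_dvd_natCard O hy
    exact orderOf_eq_one_iff.1 (Nat.eq_one_of_dvd_coprimes
      ((Nat.coprime_two_left.2 hodd).pow_left 4) h1 h2)
  have hA : IsConj z (F.f 110) := F.conj_z_A hG F.isA_110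
  have hA' : IsConj z (F.f 145) := F.conj_z_A hG F.isA_145
  set a : F.Ct := ⟨F.f 110, F.f_mem_Ct (by decide +kernel)⟩
  set b : F.Ct := ⟨F.f 145, F.f_mem_Ct (by decide +kernel)⟩
  set c : F.Ct := ⟨z, F.z_mem_Ct⟩ with hc
  have hcb : c * a = b := Subtype.ext ((congrArg (· * F.f 110) F.f_one.symm).trans
    (F.mul' (k := 145) (by decide +kernel)))
  have hcc : F.π c * F.π c = 1 := by
    rw [← map_mul, ← map_one F.π]; exact congrArg F.π (Subtype.ext F.mul_self)
  have haa : F.π a * F.π a = 1 := by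
    rw [← map_mul, ← map_one F.π]
    exact congrArg F.π (Subtype.ext (F.ne_of_type (Or.inl F.isA_110)).1)
  have h1 := inverted_of_fixedPointFree hodd hcc (key c (IsConj.refl z))
  have h2 := inverted_of_fixedPointFree hodd haa (key a hA)
  rw [Subgroup.eq_bot_iff_forall]
  intro x hx
  refine key b hA' x hx ?_
  rw [← hcb, map_mul]
  show x * (F.π c * F.π a) = F.π c * F.π a * x
  have e1 : F.π a * x * F.π a = x⁻¹ := h2 x hx
  have e2 : F.π c * x⁻¹ * F.π c = x := by rw [h1 _ (inv_mem hx), inv_inv]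
  calc x * (F.π c * F.π a) = F.π c * (F.π a * x * F.π a) * F.π c * (F.π c * F.π a) := by
        rw [e1, e2]
    _ = F.π c * F.π a * x * F.π a * (F.π c * F.π c) * F.π a := by group
    _ = F.π c * F.π a * x * (F.π a * F.π a) := by rw [hcc]; group
    _ = F.π c * F.π a * x := by rw [haa, mul_one]

theorem exists_index_two : ∃ H : Subgroup (F.Ct ⧸ F.K), H.index = 2 := by
  by_contra hno
  push Not at hno
  have hM := chk_M
  simp only [Bool.and_eq_true, allN_iff, Bool.or_eq_true, Bool.not_eq_true', Nat.beq_eq] at hM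
  set M8 : Subgroup G := F.sub inM hM.1.1 (fun i j hi hj => by
    have h := hM.2 i i.2
    simp only [hi, Bool.true_eq_false, false_or] at h
    simpa [hj] using h.2 j j.2) with hM8
  have hle : M8 ≤ F.Ct := by
    rintro x ⟨i, hi, rfl⟩
    have h := hM.2 i i.2
    simp only [hi, Bool.true_eq_false, false_or] at h
    exact F.f_mem_Ct h.1
  set M := (M8.subgroupOf F.Ct).map F.π with hMdef
  have hK : F.K ≤ M8.subgroupOf F.Ct := by
    rw [K, Subgroup.zpowers_le]
    exact ⟨3, by decide +kernel, rfl⟩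
  have hker : F.π.ker ≤ M8.subgroupOf F.Ct := by
    rw [π, QuotientGroup.ker_mk']; exact hK
  obtain ⟨m, hmodd, hm⟩ := (F.sylow_Ct hG).1
  have hidx : M.index % 4 = 2 := by
    rw [hMdef, Subgroup.index_map_eq _ F.π_surjective hker]
    have h := Subgroup.card_mul_index (M8.subgroupOf F.Ct)
    have hcard : Nat.card ↥(M8.subgroupOf F.Ct) = 8 :=
      (Nat.card_congr (Subgroup.subgroupOfEquivOfLe hle).toEquiv).trans
        ((F.card_sub _ _ _).trans hM.1.2)
    rw [hcard, hm] at h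
    obtain ⟨k, rfl⟩ := hmodd
    omega
  obtain ⟨g, hg⟩ := Cfsg.Agent.Lib.Fusion.Thompson.exists_conj_mem M hidx
    (fun N => hno N) (F.π ⟨F.f 69, F.f_mem_Ct (by decide +kernel)⟩) (by
      refine invol_iff.2 ⟨?_, fun e => ?_⟩
      · rw [← map_mul, ← map_one F.π]
        exact congrArg F.π (Subtype.ext (F.ne_of_type (i := 69) (Or.inr (Or.inl (by decide +kernel)))).1)
      · rw [← map_one F.π, eq_comm, F.π_eq_iff, Subgroup.coe_one, one_mul, ← F.f_zero,
          F.f_inj.eq_iff, F.f_inj.eq_iff] at e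
        exact absurd e (by decide))
  obtain ⟨c, rfl⟩ := F.π_surjective g
  rw [← map_inv, ← map_mul, ← map_mul, hMdef] at hg
  have hg' : c * ⟨F.f 69, _⟩ * c⁻¹ ∈ M8.subgroupOf F.Ct :=
    (Subgroup.comap_map_eq_self hker).le (Subgroup.mem_comap.2 hg)
  obtain ⟨i, hi, hie⟩ := hg'
  have hie' : F.f i = (c : G) * F.f 69 * (c : G)⁻¹ := hie
  have hb : ¬ IsConj z (F.f 69) := F.not_conj_B (by decide +kernel)
  have htb : ¬ IsConj z (F.f (tm 3 69)) := F.not_conj_B (i := tm 3 69) (by decide +kernel)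
  have hc : IsConj (F.f 69) (F.f i) := isConj_iff.2 ⟨c, hie'.symm⟩
  have hct : IsConj (F.f (tm 3 69)) (F.f 3 * F.f i) := by
    rw [← F.f_mul]
    refine isConj_iff.2 ⟨c, ?_⟩
    rw [hie', show (c : G) * (F.f 3 * F.f 69) * (c : G)⁻¹ =
      (c : G) * F.f 3 * ((c : G)⁻¹ * c) * F.f 69 * (c : G)⁻¹ by group, (F.mem_Ct.1 c.2).eq]
    group
  have hzt : ∀ j : Fin 192, IsConj z (F.f j) → F.f 3 * F.f i = F.f j → False := fun j hj e =>
    htb (hj.trans (e ▸ hct.symm))
  have hi' : (i : ℕ) ∈ [0, 1, 3, 43, 110, 145, T 3 110, T 3 145] := Cfsg.Agent.Lib.M12Cent22.mem_iff.1 hi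
  simp only [List.mem_cons, List.not_mem_nil, or_false] at hi'
  have hz1 : IsConj z (F.f 1) := isConj_iff.2 ⟨1, by rw [one_mul, inv_one, mul_one, F.f_one]⟩
  have hA : IsConj z (F.f 110) := F.conj_z_A hG F.isA_110
  have hA' : IsConj z (F.f 145) := F.conj_z_A hG F.isA_145
  rcases hi' with e | e | e | e | e | e | e | e
  · rw [show i = 0 from Fin.ext e, F.f_zero] at hc
    exact (F.ne_of_type (i := 69) (Or.inr (Or.inl (by decide +kernel)))).2.1
      (isConj_one_right.1 hc.symm)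
  · rw [show i = 1 from Fin.ext e] at hc
    exact hb (hz1.trans hc.symm)
  · rw [show i = 3 from Fin.ext e] at hie'
    have h : F.f 69 = F.f 3 := by
      have h2 : (c : G)⁻¹ * F.f 3 * c = (c : G)⁻¹ * ((c : G) * F.f 69 * (c : G)⁻¹) * c := by
        rw [hie']
      rw [mul_assoc, ← (F.mem_Ct.1 c.2).eq, inv_mul_cancel_left] at h2
      rw [h2]; group
    exact absurd (F.f_inj h) (by decide)
  · exact hzt 1 hz1 (F.mul' (by rw [e]; decide +kernel))
  · rw [show i = 110 from Fin.ext e] at hc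
    exact hb (hA.trans hc.symm)
  · rw [show i = 145 from Fin.ext e] at hc
    exact hb (hA'.trans hc.symm)
  · exact hzt 110 hA (F.mul' (by rw [e]; decide +kernel))
  · exact hzt 145 hA' (F.mul' (by rw [e]; decide +kernel))

theorem X_cases : F.Ct ≤ Subgroup.centralizer ({z} : Set G) ∨
    Nonempty ((F.Ct ⧸ F.K) ≃* Equiv.Perm (Fin 4)) ∨
    Nonempty ((F.Ct ⧸ F.K) ≃* Equiv.Perm (Fin 5)) := by
  obtain ⟨e⟩ := F.centralizer_zX hG
  obtain ⟨H, hH⟩ := F.exists_index_two hG
  rcases Cfsg.Agent.Lib.DihedralCentralizer.of_index_two F.orderOf_zX e H hH with h | h | h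
  · left
    rw [F.oddCore_eq_bot hG, sup_bot_eq] at h
    intro x hx
    refine mem_cent_iff.2 ?_
    refine (F.commute_π_iff hG (x := ⟨x, hx⟩) (r := ⟨z, F.z_mem_Ct⟩) (IsConj.refl z)).1 ?_
    exact mem_cent_iff.1 (h ▸ Subgroup.mem_top _)
  · exact Or.inr (Or.inl h)
  · exact Or.inr (Or.inr h)

end Tab

end Cfsg.Agent.Lib.M12Cent22
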