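import Cfsg.Agent.Lib.MathieuFusion.Engine

/-!
# Enumerating the elements of a chain that commute with a given element
-/

set_option autoImplicit false

namespace Cfsg.Agent.Lib.M12Cent22

open Cfsg Cfsg.Agent.Lib.Computation Cfsg.Agent.Lib.MathieuFusion

/-- `f` holds for the code of every element of `a *` chain that commutes with `z`. -/
noncomputable def allCent (f : ℕ → Bool) (z : ℕ) :
    List (Level ℕ) → List ℕ → ℕ → List ℕ → Bool
  | [], _, a, _ => f a
  | _ :: _, [], _, _ => false
  | L :: c, cnd :: cs, a, ims => L.orb.toList.all fun e =>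
      forceNat (getW 5 a e.point) fun y =>
        bif imgOk z cnd ims y then
          forceNat (mulP 24 5 a e.fwd) fun a' => allCent f z c cs a' (ims ++ [y])
        else true

theorem allCent_spec {f : ℕ → Bool} {z : ℕ} (hzok : okPerm 24 5 z = true) {n : Equiv.Perm (Fin 24)}
    (hn : n * decodeP 24 5 z = decodeP 24 5 z * n) :
    ∀ {c : List (Level ℕ)} {cs : List ℕ} {done : List ℕ} {a : ℕ},
      R24.checkChain c = true → baseOk z (c.map Level.base) cs done = true →
      (∀ v ∈ done, v < 24) → okPerm 24 5 a = true →
      allCent f z c cs a (done.map fun v => (n (Fin.ofNat 24 v) : ℕ)) = true →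
      ∀ g ∈ R24.grp c, decodeP 24 5 a * g = n →
        ∃ b, okPerm 24 5 b = true ∧ decodeP 24 5 b = n ∧ f b = true := by
  intro c
  induction c with
  | nil =>
    intro cs done a _ _ _ ha h g hg hgn
    rw [R24.grp_nil, Subgroup.mem_bot] at hg
    rw [hg, mul_one] at hgn
    exact ⟨a, ha, hgn, h⟩
  | cons L rest ih =>
    intro cs done a hc hb hdone ha h g hg hgn
    cases cs with
    | nil => simp [allCent] at h
    | cons cnd cs =>
      simp only [List.map_cons, baseOk, Bool.and_eq_true] at hb
      obtain ⟨e, he, k, hk, rfl⟩ := R24.decomp hc hg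
      have F := R24.levelFacts hc
      have hfok : okPerm 24 5 e.fwd = true := F.fwd_ok e he
      have hbase : L.base < 24 := by
        have := F.ptOk_base
        simp only [Nat.blt, Nat.ble_eq] at this
        exact this
      have hpt : e.point < 24 := by
        have := F.ptOk_point e he
        simp only [Nat.blt, Nat.ble_eq] at this
        exact this
      have hy : getW 5 a e.point = (n (Fin.ofNat 24 L.base) : ℕ) := by
        have h1 : (R24.val e.fwd * k) • R24.pt L.base = R24.pt e.point := by
          rw [mul_smul, R24.fix_base hc hk, R24.fwd_smul_base hc he]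
        rw [← hgn, Equiv.Perm.mul_apply]
        change _ = ((decodeP 24 5 a) ((R24.val e.fwd * k) • R24.pt L.base) : ℕ)
        rw [h1, decodeP_apply ha]
        simp [Nat.mod_eq_of_lt hpt]
      have h' := List.all_eq_true.mp h e he
      rw [forceNat_eq, hy, imgOk_map hzok hn hbase hdone hb.1, cond_true, forceNat_eq] at h'
      refine ih (cs := cs) (done := done ++ [L.base]) (R24.checkChain_tail hc) hb.2 ?_
        (okPerm_mulP ha hfok) ?_ k hk ?_
      · intro v hv
        rcases List.mem_append.mp hv with hv | hv
        · exact hdone v hv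
        · rw [List.mem_singleton.mp hv]; exact hbase
      · rw [List.map_append]
        exact h'
      · rw [decodeP_mulP ha hfok, mul_assoc]
        exact hgn

end Cfsg.Agent.Lib.M12Cent22
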