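import Cfsg.Agent.Lib.M12Cent22.Table
import Cfsg.Agent.Lib.Involutions.Basic
import Cfsg.Prelude.Def_SporadicB

/-!
# Centralizers of involutions isomorphic to the centralizer of a 2-central involution of `M12`

Owner: helper22.
-/

set_option autoImplicit false
set_option linter.style.haveILetI false

namespace Cfsg.Agent.Lib.M12Cent22

open Cfsg.Agent.Lib.Computation Cfsg.Agent.Lib.MathieuFusion

/-- The centralizer of `z` is given by the table, the index `1` corresponding to `z`. -/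
structure Tab {G : Type*} [Group G] (z : G) where
  /-- The elements of the centralizer. -/
  f : Fin 192 → G
  f_mul : ∀ i j, f i * f j = f (tm i j)
  f_inj : Function.Injective f
  mem_iff : ∀ x, x ∈ Subgroup.centralizer ({z} : Set G) ↔ ∃ i, f i = x
  f_one : f 1 = z

theorem chk_centre : (allN 192 fun i => anyN 192 (fun j => !Nat.beq (T i j) (T j i)) ||
    Nat.blt i 2) = true := by decide +kernel

theorem exists_code_model (u : ↥Cfsg.Spor.M12) (hu : Cfsg.IsTwoCentralInvolution u) :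
    ∃ m : Fin 192 → ↥Cfsg.Spor.M12, (∀ i j, m i * m j = m (tm i j)) ∧ Function.Injective m ∧
      ∀ x, x ∈ Subgroup.centralizer ({u} : Set ↥Cfsg.Spor.M12) ↔ ∃ i, m i = x := by
  haveI : Fact (Nat.Prime 2) := ⟨Nat.prime_two⟩
  haveI : Finite (↥Cfsg.Spor.M12) := inferInstance
  obtain ⟨eM⟩ := model_M12
  obtain ⟨hord, P, huP, hcomm⟩ := hu
  let φ : ↥Cfsg.Spor.M12 →* Equiv.Perm (Fin 24) :=
    (R24.grp Cert.m12G_chain).subtype.comp eM.toMonoidHom
  have hφinj : Function.Injective φ := Subtype.val_injective.comp eM.injective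
  have hsurj : ∀ g ∈ R24.grp Cert.m12G_chain, ∃ y, φ y = g := fun g hg =>
    ⟨eM.symm ⟨g, hg⟩, by simp [φ]⟩
  have hS := R24.checkChain_of_checkClosure Cert.m12S_check
  have hG := R24.checkChain_of_checkClosure Cert.m12G_check
  have hle : R24.grp Cert.m12S_chain ≤ R24.grp Cert.m12G_chain := by
    have hc := Cert.m12_cert
    simp only [certOk, Bool.and_eq_true, List.all_eq_true] at hc
    rw [Rep.grp, Subgroup.closure_le]
    rintro _ ⟨s, hs, rfl⟩
    exact R24.mem_grp_of_sift hG (R24.topGens_ok hS hs) (hc.1.1.1.1.1.1.1.2 s hs).2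
  let S : Subgroup ↥Cfsg.Spor.M12 := (R24.grp Cert.m12S_chain).comap φ
  have hmap : S.map φ = R24.grp Cert.m12S_chain :=
    Subgroup.map_comap_eq_self fun g hg => by
      obtain ⟨y, hy⟩ := hsurj g (hle hg)
      exact ⟨y, hy⟩
  have hcardS : Nat.card S = 2 ^ 6 := by
    rw [← Subgroup.card_map_of_injective hφinj (K := S), hmap, R24.card_grp hS]
    decide +kernel
  let Q : Sylow 2 ↥Cfsg.Spor.M12 := Sylow.ofCard S (by
    rw [hcardS, Golay.card_spor_M12, show (95040 : ℕ) = 2 ^ 6 * 1485 by norm_num,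
      Nat.factorization_mul (by norm_num) (by norm_num), Finsupp.add_apply,
      Nat.Prime.factorization_pow Nat.prime_two, Finsupp.single_eq_same,
      Nat.factorization_eq_zero_of_not_dvd (by norm_num : ¬ 2 ∣ 1485)])
  obtain ⟨g, hg⟩ := MulAction.exists_smul_eq ↥Cfsg.Spor.M12 P Q
  have hQ : ∀ y, y ∈ S ↔ g⁻¹ * y * g ∈ P := by
    intro y
    have : y ∈ (Q : Subgroup _) ↔ g⁻¹ * y * g ∈ (P : Subgroup _) := by
      rw [← hg, Sylow.coe_subgroup_smul, Subgroup.mem_smul_pointwise_iff_exists]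
      constructor
      · rintro ⟨p, hp, rfl⟩
        simpa [MulAut.conj_apply, mul_assoc] using hp
      · intro hp
        exact ⟨_, hp, by simp [MulAut.conj_apply, mul_assoc]⟩
    exact this
  set x := g * u * g⁻¹ with hx
  have hxS : x ∈ S := (hQ x).2 (by rw [hx]; simpa [mul_assoc] using huP)
  have hz0 : φ x = decodeP 24 5 z0 := by
    have hc := Cert.m12_cert
    simp only [certOk, Bool.and_eq_true] at hc
    rcases centre_spec hS hc.1.1.2 (x := φ x) hxS (fun w hw => by
      obtain ⟨y, hy, rfl⟩ := Subgroup.mem_map.1 (hmap ▸ hw : w ∈ S.map φ)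
      rw [← map_mul, ← map_mul]
      have h1 := hcomm _ ((hQ y).1 hy)
      congr 1
      calc x * y = g * (u * (g⁻¹ * y * g)) * g⁻¹ := by rw [hx]; group
        _ = g * ((g⁻¹ * y * g) * u) * g⁻¹ := by rw [h1]
        _ = y * x := by rw [hx]; group) with h | h
    · exfalso
      have h1 : x = 1 := hφinj (h.trans (map_one φ).symm)
      rw [hx, conj_eq_one_iff] at h1
      rw [h1, orderOf_one] at hord
      norm_num at hord
    · exact h
  let m : Fin 192 → ↥Cfsg.Spor.M12 := fun i =>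
    g⁻¹ * eM.symm ⟨decodeP 24 5 (Data.code i), code_mem i⟩ * g
  have hφm : ∀ i, φ (g * m i * g⁻¹) = decodeP 24 5 (Data.code i) := by
    intro i
    simp [φ, m, mul_assoc]
  refine ⟨m, fun i j => ?_, fun i j hij => ?_, fun y => ⟨fun hy => ?_, ?_⟩⟩
  · refine mul_left_cancel (a := g) (mul_right_cancel (b := g⁻¹) (hφinj ?_))
    rw [hφm, show g * (m i * m j) * g⁻¹ = g * m i * g⁻¹ * (g * m j * g⁻¹) by group, map_mul,
      hφm, hφm, decode_code_mul]
  · exact code_injective (by rw [← hφm, ← hφm, hij])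
  · obtain ⟨i, hi⟩ := exists_code (g := φ (g * y * g⁻¹)) (eM (g * y * g⁻¹)).2 (by
      rw [← hz0, ← map_mul, ← map_mul]
      congr 1
      rw [Subgroup.mem_centralizer_singleton_iff] at hy
      calc g * y * g⁻¹ * x = g * (y * u) * g⁻¹ := by rw [hx]; group
        _ = g * (u * y) * g⁻¹ := by rw [hy]
        _ = x * (g * y * g⁻¹) := by rw [hx]; group)
    exact ⟨i, mul_left_cancel (a := g) (mul_right_cancel (b := g⁻¹) (hφinj ((hφm i).trans hi)))⟩
  · rintro ⟨i, rfl⟩
    rw [Subgroup.mem_centralizer_singleton_iff]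
    refine mul_left_cancel (a := g) (mul_right_cancel (b := g⁻¹) (hφinj ?_))
    rw [show g * (m i * u) * g⁻¹ = g * m i * g⁻¹ * x by rw [hx]; group,
      show g * (u * m i) * g⁻¹ = x * (g * m i * g⁻¹) by rw [hx]; group,
      map_mul φ (g * m i * g⁻¹) x, map_mul φ x (g * m i * g⁻¹), hφm, hz0, code_comm]

/-- The hypothesis of the theorem gives a table. -/
theorem exists_tab {G : Type*} [Group G] (u : ↥Cfsg.Spor.M12) (hu : Cfsg.IsTwoCentralInvolution u)
    (t : G) (ht : orderOf t = 2)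
    (e : ↥(Subgroup.centralizer ({t} : Set G)) ≃* ↥(Subgroup.centralizer ({u} : Set ↥Cfsg.Spor.M12))) :
    Nonempty (Tab t) := by
  obtain ⟨m, hmul, hinj, hmem⟩ := exists_code_model u hu
  let k : Fin 192 → ↥(Subgroup.centralizer ({u} : Set ↥Cfsg.Spor.M12)) := fun i =>
    ⟨m i, (hmem _).2 ⟨i, rfl⟩⟩
  let f : Fin 192 → G := fun i => (e.symm (k i) : G)
  have f_mul : ∀ i j, f i * f j = f (tm i j) := by
    intro i j
    simp only [f]
    rw [← Subgroup.coe_mul, ← map_mul]
    congr 2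
    exact Subtype.ext (hmul i j)
  have f_inj : Function.Injective f := by
    intro i j hij
    exact hinj (congrArg Subtype.val (e.symm.injective (Subtype.ext hij)))
  have hmem' : ∀ x, x ∈ Subgroup.centralizer ({t} : Set G) ↔ ∃ i, f i = x := by
    intro x
    constructor
    · intro hx
      obtain ⟨i, hi⟩ := (hmem _).1 (e ⟨x, hx⟩).2
      exact ⟨i, by simp only [f]; rw [show k i = e ⟨x, hx⟩ from Subtype.ext hi, e.symm_apply_apply]⟩
    · rintro ⟨i, rfl⟩
      exact (e.symm (k i)).2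
  obtain ⟨i, hi⟩ := (hmem' t).1 (Subgroup.mem_centralizer_singleton_iff.2 rfl)
  have hcent : ∀ j : Fin 192, T i j = T j i := by
    intro j
    have h := Subgroup.mem_centralizer_singleton_iff.1 ((hmem' (f j)).2 ⟨j, rfl⟩)
    rw [← hi, f_mul, f_mul] at h
    exact congrArg Fin.val (f_inj h).symm
  have hi2 := allN_iff.1 chk_centre i i.2
  simp only [Bool.or_eq_true, anyN_iff, Bool.not_eq_true', Bool.eq_false_iff, ne_eq, Nat.beq_eq,
    Nat.blt, Nat.ble_eq] at hi2
  have hlt : (i : ℕ) + 1 ≤ 2 := by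
    rcases hi2 with ⟨j, hj, hne⟩ | h
    · exact absurd (hcent ⟨j, hj⟩) hne
    · exact h
  have h0 : f 0 = 1 := by
    have h := f_mul 0 0
    rw [hr] at h
    exact mul_eq_left.1 h
  refine ⟨⟨f, f_mul, f_inj, hmem', ?_⟩⟩
  rcases (show (i : ℕ) = 0 ∨ (i : ℕ) = 1 by omega) with h | h
  · exfalso
    rw [show i = 0 from Fin.ext h, h0] at hi
    rw [← hi, orderOf_one] at ht
    norm_num at ht
  · rw [← hi, show i = 1 from Fin.ext h]

end Cfsg.Agent.Lib.M12Cent22
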