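import Cfsg.Agent.Lib.MathieuFusion.M12
import Cfsg.Agent.Lib.M12Cent22.Data
import Cfsg.Agent.Lib.M12Cent22.Search

/-!
# Certificates for the table of the centralizer in `M12`

Owner: helper22.
-/

set_option autoImplicit false

namespace Cfsg.Agent.Lib.M12Cent22

open Cfsg.Agent.Lib.Computation Cfsg.Agent.Lib.MathieuFusion

/-- The product of the elements with indices `i` and `j`. -/
def T (i j : ℕ) : ℕ := Nat.mod (Nat.shiftRight (Data.row i) (Nat.mul 8 j)) 256

/-- All numbers below `n` satisfy `f`. -/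
def allN (n : ℕ) (f : ℕ → Bool) : Bool :=
  Nat.rec true (fun i acc => Bool.rec (motive := fun _ => Bool) false acc (f i)) n

theorem allN_succ (n : ℕ) (f : ℕ → Bool) : allN (n + 1) f = (f n && allN n f) := by
  change Bool.rec (motive := fun _ => Bool) false (allN n f) (f n) = _
  cases f n <;> rfl

theorem allN_iff {n : ℕ} {f : ℕ → Bool} : allN n f = true ↔ ∀ i < n, f i = true := by
  induction n with
  | zero => simp [allN]
  | succ n ih =>
    rw [allN_succ, Bool.and_eq_true, ih]
    constructor
    · rintro ⟨h1, h2⟩ i hi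
      rcases Nat.lt_succ_iff_lt_or_eq.1 hi with h | rfl
      · exact h2 i h
      · exact h1
    · exact fun h => ⟨h n (by omega), fun i hi => h i (by omega)⟩

/-- Some number below `n` satisfies `f`. -/
def anyN (n : ℕ) (f : ℕ → Bool) : Bool := !(allN n fun i => !(f i))

theorem anyN_iff {n : ℕ} {f : ℕ → Bool} : anyN n f = true ↔ ∃ i < n, f i = true := by
  simp only [anyN, Bool.not_eq_true', Bool.eq_false_iff, ne_eq, allN_iff, Bool.eq_false_iff,
    not_forall, not_not, exists_prop]

/-- The code of the central involution. -/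
def z0 : ℕ := 969958826742993894265839954570609728

/-- The conditions for the search. -/
def conds : List ℕ := [24, 0, 24, 2, 24, 4, 24, 6]

theorem chk_code : (allN 192 fun i => okPerm 24 5 (Data.code i) &&
    R24.sift Cert.m12G_chain (Data.code i) &&
    Nat.beq (mulP 24 5 (Data.code i) z0) (mulP 24 5 z0 (Data.code i)) &&
    allN 192 fun j => Nat.beq i j || !Nat.beq (Data.code i) (Data.code j)) = true := by decide +kernel

theorem chk_hom : (allN 192 fun i => allN 192 fun j => forceNat (T i j) fun k =>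
    Nat.blt k 192 && Nat.beq (mulP 24 5 (Data.code i) (Data.code j)) (Data.code k)) = true := by
  decide +kernel

theorem chk_cover : (okPerm 24 5 z0 && baseOk z0 (Cert.m12G_chain.map Level.base) conds [] &&
    allCent (fun a => !(Nat.beq (mulP 24 5 a z0) (mulP 24 5 z0 a)) ||
      anyN 192 fun i => Nat.beq (Data.code i) a) z0 Cert.m12G_chain conds oneP []) = true := by
  decide +kernel

theorem T_lt {i j : ℕ} (hi : i < 192) (hj : j < 192) : T i j < 192 := by
  have h := allN_iff.1 (allN_iff.1 chk_hom i hi) j hj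
  rw [forceNat_eq, Bool.and_eq_true] at h
  simp only [Nat.blt, Nat.ble_eq] at h
  exact h.1

/-- The product as an operation on `Fin 192`. -/
def tm (i j : Fin 192) : Fin 192 := ⟨T i j, T_lt i.2 j.2⟩

theorem decode_code_mul (i j : Fin 192) :
    decodeP 24 5 (Data.code i) * decodeP 24 5 (Data.code j) = decodeP 24 5 (Data.code (tm i j)) := by
  have h := allN_iff.1 (allN_iff.1 chk_hom i i.2) j j.2
  rw [forceNat_eq, Bool.and_eq_true] at h
  have hi := allN_iff.1 chk_code i i.2
  have hj := allN_iff.1 chk_code j j.2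
  simp only [Bool.and_eq_true] at hi hj
  rw [← decodeP_mulP hi.1.1.1 hj.1.1.1, Nat.eq_of_beq_eq_true h.2]
  rfl

theorem code_mem (i : Fin 192) : decodeP 24 5 (Data.code i) ∈ R24.grp Cert.m12G_chain := by
  have hi := allN_iff.1 chk_code i i.2
  simp only [Bool.and_eq_true] at hi
  exact R24.mem_grp_of_sift (R24.checkChain_of_checkClosure Cert.m12G_check) hi.1.1.1 hi.1.1.2

theorem code_comm (i : Fin 192) :
    decodeP 24 5 (Data.code i) * decodeP 24 5 z0 = decodeP 24 5 z0 * decodeP 24 5 (Data.code i) := by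
  have hi := allN_iff.1 chk_code i i.2
  have hz := chk_cover
  simp only [Bool.and_eq_true] at hi hz
  rw [← decodeP_mulP hi.1.1.1 hz.1.1, ← decodeP_mulP hz.1.1 hi.1.1.1,
    Nat.eq_of_beq_eq_true hi.1.2]

theorem hr : ∀ k : Fin 192, tm k 0 = k := by decide +kernel

theorem code_injective {i j : Fin 192}
    (h : decodeP 24 5 (Data.code i) = decodeP 24 5 (Data.code j)) : i = j := by
  have hc : ∀ k : Fin 192, okPerm 24 5 (Data.code k) = true ∧
      mulP 24 5 (Data.code k) (Data.code (0 : Fin 192)) = Data.code k := by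
    intro k
    have hk := allN_iff.1 chk_code k k.2
    simp only [Bool.and_eq_true] at hk
    have := allN_iff.1 (allN_iff.1 chk_hom k k.2) 0 (by omega)
    rw [forceNat_eq, Bool.and_eq_true] at this
    refine ⟨hk.1.1.1, (Nat.eq_of_beq_eq_true this.2).trans ?_⟩
    exact congrArg Data.code (congrArg Fin.val (hr k))
  have h2 : Data.code i = Data.code j := by
    rw [← (hc i).2, ← (hc j).2]
    exact mulP_eq_of_decode (hc i).1 (hc 0).1 (hc j).1 (hc 0).1 (by rw [h])
  have hi := allN_iff.1 chk_code i i.2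
  simp only [Bool.and_eq_true] at hi
  have := allN_iff.1 hi.2 j j.2
  simp only [Bool.or_eq_true, Bool.not_eq_true', Nat.beq_eq, Bool.eq_false_iff, ne_eq] at this
  exact Fin.ext (this.resolve_right fun e => e h2)

theorem exists_code {g : Equiv.Perm (Fin 24)} (hg : g ∈ R24.grp Cert.m12G_chain)
    (hc : g * decodeP 24 5 z0 = decodeP 24 5 z0 * g) :
    ∃ i : Fin 192, decodeP 24 5 (Data.code i) = g := by
  have hz := chk_cover
  simp only [Bool.and_eq_true] at hz
  obtain ⟨b, hb, hbg, hf⟩ := allCent_spec hz.1.1 hc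
    (R24.checkChain_of_checkClosure Cert.m12G_check) hz.1.2 (by simp) oneP_ok
    (by simpa using hz.2) g hg (by rw [decodeP_oneP, one_mul])
  simp only [Bool.or_eq_true, Bool.not_eq_true', Bool.eq_false_iff, ne_eq, Nat.beq_eq, anyN_iff] at hf
  rcases hf with hf | ⟨i, hi, he⟩
  · exact absurd (mulP_eq_of_decode hb hz.1.1 hz.1.1 hb (by rw [hbg, hc])) hf
  · exact ⟨⟨i, hi⟩, by rw [← hbg, show Data.code (⟨i, hi⟩ : Fin 192).val = b from he]⟩

end Cfsg.Agent.Lib.M12Cent22
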